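import Cfsg.Agent.Lib.SmallGroups.DihedralThree.Model
import Cfsg.Agent.Lib.Char.ClassAlgebra
import Cfsg.Agent.Lib.Char.Generalized
import Cfsg.Agent.Lib.InvolChar.Basic
import Mathlib

/-!
Character values on the exceptional classes of a group with local subgroup `3² ⋊ D₈`.
-/

set_option autoImplicit false

namespace CfsgLib.SmallGroups.DihedralThree

open Cfsg CfsgLib.Char CfsgLib.InvolChar
open scoped ComplexConjugate

variable {G : Type*} [Group G] {Φ : Local72 →* G}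

/-- `3² ⋊ D₈` is the normalizer of a Sylow `3`-subgroup and controls the centralizers of its elements. -/
structure Loc (Φ : Local72 →* G) : Prop where
  inj : Function.Injective Φ
  cent : ∀ y : Local72, y ^ 3 = 1 → y ≠ 1 → ∀ g : G, g * Φ y = Φ y * g → g ∈ Φ.range
  fus : ∀ y y' : Local72, y ^ 3 = 1 → y ≠ 1 → y' ^ 3 = 1 → ∀ g : G, g * Φ y * g⁻¹ = Φ y' → g ∈ Φ.range
  sylow : ∃ G₀ : ℕ, Nat.card G = 9 * G₀ ∧ G₀ % 3 = 2
  inv9 : ∀ s : Local72, s * s = 1 → s ≠ 1 → ¬ 9 ∣ Nat.card (Subgroup.centralizer ({Φ s} : Set G))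

theorem Loc.comp_mirror (h : Loc Φ) : Loc (Φ.comp mirror.toMonoidHom) where
  inj := h.inj.comp mirror.injective
  cent y hy hy1 g hg := by
    obtain ⟨c, rfl⟩ := h.cent (mirror y) (by rw [← map_pow, hy, map_one])
      (fun e => hy1 (by simpa using e)) g hg
    exact ⟨mirror.symm c, congrArg Φ (mirror.apply_symm_apply c)⟩
  fus y y' hy hy1 hy' g hg := by
    obtain ⟨c, rfl⟩ := h.fus (mirror y) (mirror y') (by rw [← map_pow, hy, map_one])
      (fun e => hy1 (by simpa using e)) (by rw [← map_pow, hy', map_one]) g hg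
    exact ⟨mirror.symm c, congrArg Φ (mirror.apply_symm_apply c)⟩
  sylow := h.sylow
  inv9 s hs hs1 := h.inv9 (mirror s) (by rw [← map_mul, hs, map_one]) fun e => hs1 (by simpa using e)

theorem isConj_map {a b : Local72} (h : ∃ c, c * a * c⁻¹ = b) : IsConj (Φ a) (Φ b) := by
  obtain ⟨c, rfl⟩ := h
  exact isConj_iff.mpr ⟨Φ c, by simp⟩

theorem Loc.not_conj (h : Loc Φ) {k l : Fin 4} (hne : k ≠ l) : ¬ IsConj (Φ (rep k)) (Φ (rep l)) := by
  intro hc
  obtain ⟨g, hg⟩ := isConj_iff.mp hc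
  obtain ⟨c, rfl⟩ := h.fus (rep k ^ 4) (rep l ^ 4) (rep_pow k).2 (rep_pow k).1 (rep_pow l).2 g
    (by rw [map_pow, map_pow, ← conj_pow, hg])
  exact rep_not_conj k l hne c (h.inj (by simpa using hg))

theorem Loc.card_centralizer (h : Loc Φ) (k : Fin 4) :
    Nat.card (Subgroup.centralizer ({Φ (rep k)} : Set G)) = ![18, 18, 6, 6] k := by
  rw [← rep_centralizer k, ← Fintype.card_subtype, ← Nat.card_eq_fintype_card]
  refine (Nat.card_eq_of_bijective
    (fun c : {c : Local72 // c * rep k = rep k * c} => (⟨Φ c.1, Subgroup.mem_centralizer_singleton_iff.mpr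
      (by rw [← map_mul, ← map_mul, c.2])⟩ : Subgroup.centralizer ({Φ (rep k)} : Set G))) ⟨?_, ?_⟩).symm
  · exact fun a b e => Subtype.ext (h.inj (congrArg Subtype.val e))
  · rintro ⟨g, hg⟩
    rw [Subgroup.mem_centralizer_singleton_iff] at hg
    obtain ⟨c, rfl⟩ := h.cent (rep k ^ 4) (rep_pow k).2 (rep_pow k).1 g (by
      rw [map_pow]; exact (Commute.pow_right (show Commute g (Φ (rep k)) from hg) 4))
    exact ⟨⟨c, h.inj (by simpa using hg)⟩, rfl⟩

variable [Fintype G]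

/-- The values of `χ` on the four classes. -/
noncomputable def val (Φ : Local72 →* G) (χ : IrrCharacter G) (k : Fin 4) : ℂ := (χ : G → ℂ) (Φ (rep k))

theorem value_conj (χ : IrrCharacter G) {a b : G} (h : IsConj a b) : (χ : G → ℂ) a = (χ : G → ℂ) b :=
  isClassFunction_iff.mp (isClassFunction_of_isIrr χ.2) _ _ h

theorem Loc.orth (h : Loc Φ) (k l : Fin 4) :
    ∑ χ : IrrCharacter G, val Φ χ k * val Φ χ l = if k = l then ((![18, 18, 6, 6] k : ℕ) : ℂ) else 0 := by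
  classical
  have hr : IsConj (Φ (rep l)) (Φ (rep l))⁻¹ := by rw [← map_inv]; exact isConj_map (rep_real l)
  have := second_orthogonality (Φ (rep k)) (Φ (rep l))
  have hl : ∀ χ : IrrCharacter G, conj ((χ : G → ℂ) (Φ (rep l))) = val Φ χ l := fun χ => by
    rw [← char_inv (isCharacter_of_isIrr χ.2), value_conj χ hr.symm]; rfl
  simp only [hl] at this
  rw [show (∑ χ : IrrCharacter G, val Φ χ k * val Φ χ l) = _ from this]
  by_cases hkl : k = l
  · subst hkl; rw [if_pos (IsConj.refl _), if_pos rfl, h.card_centralizer]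
  · rw [if_neg (h.not_conj hkl), if_neg hkl]

theorem Loc.orth_other (h : Loc Φ) {x : G} (hx : x * x = 1) (k : Fin 4) :
    ∑ χ : IrrCharacter G, (χ : G → ℂ) x * val Φ χ k = 0 := by
  classical
  have hne : ¬ IsConj x (Φ (rep k)) := fun hc => by
    obtain ⟨g, hg⟩ := isConj_iff.mp hc
    refine rep_sq_ne_one k (h.inj ?_)
    rw [map_mul, map_one, ← hg, show g * x * g⁻¹ * (g * x * g⁻¹) = g * (x * x) * g⁻¹ by group, hx]; simp
  have := second_orthogonality x (Φ (rep k))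
  have hr : IsConj (Φ (rep k)) (Φ (rep k))⁻¹ := by rw [← map_inv]; exact isConj_map (rep_real k)
  have hl : ∀ χ : IrrCharacter G, conj ((χ : G → ℂ) (Φ (rep k))) = val Φ χ k := fun χ => by
    rw [← char_inv (isCharacter_of_isIrr χ.2), value_conj χ hr.symm]; rfl
  simpa only [hl, if_neg hne] using this

/-- Integrality of a twisted sum over a finite group mapped into `G`. -/
theorem twisted_sum {H : Type*} [Group H] [Fintype H] (j : H →* G) (f : H →* ℂˣ) (χ : IrrCharacter G) :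
    ∃ z : ℤ, ∑ x : H, (χ : G → ℂ) (j x) * (f x : ℂ) = (Fintype.card H : ℂ) * z := by
  obtain ⟨n, hn⟩ := classInner_char_nat (isCharacter_comp (isCharacter_of_isIrr χ.2) j)
    (isCharacter_of_isIrr (isIrrCharacter_units_hom f⁻¹))
  refine ⟨n, ?_⟩
  rw [classInner_def, inv_mul_eq_iff_eq_mul₀ card_ne_zero'] at hn
  rw [Nat.card_eq_fintype_card] at hn
  push_cast
  rw [← hn]
  refine Finset.sum_congr rfl fun x _ => ?_
  rw [← char_inv (isCharacter_of_isIrr (isIrrCharacter_units_hom f⁻¹))]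
  simp

theorem sum_three_two (F : ZMod 3 → ZMod 2 → ℂ) :
    ∑ p : Multiplicative (ZMod 3 × ZMod 2), F p.toAdd.1 p.toAdd.2 =
      F 0 0 + F 0 1 + F 1 0 + F 1 1 + F 2 0 + F 2 1 := by
  rw [Equiv.sum_comp Multiplicative.toAdd (fun p : ZMod 3 × ZMod 2 => F p.1 p.2), Fintype.sum_prod_type]
  simp only [show (Finset.univ : Finset (ZMod 3)) = {0, 1, 2} by decide,
    show (Finset.univ : Finset (ZMod 2)) = {0, 1} by decide]
  simp (discharger := decide) [Finset.sum_insert]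
  ring

theorem sum_three_three (F : ZMod 3 → ZMod 3 → ℂ) :
    ∑ p : Multiplicative (ZMod 3 × ZMod 3), F p.toAdd.1 p.toAdd.2 =
      F 0 0 + F 0 1 + F 0 2 + F 1 0 + F 1 1 + F 1 2 + F 2 0 + F 2 1 + F 2 2 := by
  rw [Equiv.sum_comp Multiplicative.toAdd (fun p : ZMod 3 × ZMod 3 => F p.1 p.2), Fintype.sum_prod_type]
  simp only [show (Finset.univ : Finset (ZMod 3)) = {0, 1, 2} by decide]
  simp (discharger := decide) [Finset.sum_insert]
  ring

/-- The data of a character: degree, the four values, the values at the two reflections. -/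
theorem Loc.values (_h : Loc Φ) (χ : IrrCharacter G) :
    ∃ (c : Fin 4 → ℤ) (x y : ℤ),
      val Φ χ 0 = ((c 0 + c 2 - 2 * (c 1 + c 3) : ℤ) : ℂ) ∧ val Φ χ 1 = ((-2 * (c 0 + c 2) + (c 1 + c 3) : ℤ) : ℂ) ∧
      val Φ χ 2 = ((c 2 - c 0 : ℤ) : ℂ) ∧ val Φ χ 3 = ((c 3 - c 1 : ℤ) : ℂ) ∧
      (χ : G → ℂ) (Φ sA) = x ∧ (χ : G → ℂ) (Φ sB) = y ∧ (3 : ℤ) ∣ x - (c 2 - c 0) ∧ (3 : ℤ) ∣ y - (c 3 - c 1) ∧
      (9 : ℤ) ∣ (deg χ : ℤ) - 4 * (c 0 + c 1 + c 2 + c 3) := by
  classical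
  obtain ⟨w, hw3, hw1⟩ : ∃ w : ℂˣ, w ^ 3 = 1 ∧ w ≠ 1 := by
    have h := Complex.isPrimitiveRoot_exp 3 (by norm_num)
    exact ⟨(h.isUnit (by norm_num)).unit, Units.ext (by rw [Units.val_pow_eq_pow_val]; exact h.pow_eq_one),
      fun e => h.ne_one (by norm_num) (congrArg Units.val e)⟩
  have hsum : (1 : ℂ) + w + (w : ℂ) ^ 2 = 0 := by
    have h1 : (w : ℂ) - 1 ≠ 0 := sub_ne_zero.mpr fun e => hw1 (Units.ext e)
    have h3 : (w : ℂ) ^ 3 = 1 := by rw [← Units.val_pow_eq_pow_val, hw3, Units.val_one]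
    exact (mul_eq_zero.mp (show ((w : ℂ) - 1) * (1 + w + (w : ℂ) ^ 2) = 0 by linear_combination h3)).resolve_left h1
  have h3 : (w : ℂ) ^ 3 = 1 := by rw [← Units.val_pow_eq_pow_val, hw3, Units.val_one]
  let pw : ∀ (A : Type) [AddCommGroup A], (A →+ ZMod 3) → Multiplicative A →* ℂˣ := fun A _ π =>
    { toFun := fun p => w ^ (π p.toAdd).val
      map_one' := by simp
      map_mul' := fun p q => by
        simp only [toAdd_mul, map_add, ZMod.val_add, ← pow_add]
        exact (pow_mod_orderOf w _).symm.trans ((by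
          rw [orderOf_eq_prime (p := 3) hw3 hw1, Nat.mod_mod]) : _ = _) |>.trans (pow_mod_orderOf w _) }
  -- the subgroups of order six
  have six : ∀ k : Fin 2, ∃ A As x : ℤ,
      (χ : G → ℂ) (Φ (rep (Fin.castLE (by omega) k))) = A ∧ (χ : G → ℂ) (Φ (rep ⟨k.val + 2, by omega⟩)) = As ∧
      (χ : G → ℂ) (Φ (invRep (Fin.castSucc k))) = x ∧ (2 : ℤ) ∣ A + As ∧ (3 : ℤ) ∣ x - As := by
    intro k
    obtain ⟨e00, e01, ea⟩ := sixHom_values k
    let j : Multiplicative (ZMod 3 × ZMod 2) →* G := Φ.comp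
      { toFun := fun p => sixHom k p.toAdd.1 p.toAdd.2
        map_one' := e00
        map_mul' := fun p q => sixHom_mul k _ _ _ _ }
    set A₀ := (χ : G → ℂ) (Φ (rep (Fin.castLE (by omega) k)))
    set As₀ := (χ : G → ℂ) (Φ (rep ⟨k.val + 2, by omega⟩))
    have hx2 : Φ (invRep (Fin.castSucc k)) * Φ (invRep (Fin.castSucc k)) = 1 := by
      rw [← map_mul, (invRep_spec _).1, map_one]
    set x := intVal χ hx2
    have hx := intVal_spec χ hx2
    have hv : ∀ a : ZMod 3, a ≠ 0 → (χ : G → ℂ) (j (Multiplicative.ofAdd (a, 0))) = A₀ ∧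
        (χ : G → ℂ) (j (Multiplicative.ofAdd (a, 1))) = As₀ := fun a ha =>
      ⟨(value_conj χ (isConj_map (ea a ha).1)).symm, (value_conj χ (isConj_map (ea a ha).2)).symm⟩
    have h0 : (χ : G → ℂ) (j (Multiplicative.ofAdd (0, 0))) = deg χ := by
      rw [show (Multiplicative.ofAdd ((0, 0) : ZMod 3 × ZMod 2)) = 1 from rfl, map_one, deg_spec]
    have h01 : (χ : G → ℂ) (j (Multiplicative.ofAdd (0, 1))) = x := by
      rw [show j (Multiplicative.ofAdd (0, 1)) = Φ (invRep (Fin.castSucc k)) from congrArg Φ e01]; exact hx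
    -- restriction to the part of order three
    let i₃ : Multiplicative (ZMod 3) →* Multiplicative (ZMod 3 × ZMod 2) :=
      (AddMonoidHom.inl (ZMod 3) (ZMod 2)).toMultiplicative
    obtain ⟨n', hn'⟩ := twisted_sum (j.comp i₃) 1 χ
    obtain ⟨m', hm'⟩ := twisted_sum (j.comp i₃) (pw _ (AddMonoidHom.id (ZMod 3))) χ
    have s3 : ∀ F : ZMod 3 → ℂ, ∑ p : Multiplicative (ZMod 3), F p.toAdd = F 0 + F 1 + F 2 := by
      intro F
      rw [Equiv.sum_comp Multiplicative.toAdd F]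
      exact Fin.sum_univ_three F
    rw [show (∑ p : Multiplicative (ZMod 3), (χ : G → ℂ) ((j.comp i₃) p) * ((1 : Multiplicative (ZMod 3) →* ℂˣ) p : ℂ))
        = _ from s3 fun a => (χ : G → ℂ) (j (Multiplicative.ofAdd (a, 0))) * 1] at hn'
    rw [show (∑ p : Multiplicative (ZMod 3), (χ : G → ℂ) ((j.comp i₃) p) * ((pw _ (AddMonoidHom.id (ZMod 3))) p : ℂ))
        = _ from s3 fun a => (χ : G → ℂ) (j (Multiplicative.ofAdd (a, 0))) * ((w ^ a.val : ℂˣ) : ℂ)] at hm'
    simp only [h0, (hv 1 (by decide)).1, (hv 2 (by decide)).1, Units.val_pow_eq_pow_val] at hn' hm'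
    simp only [show (0 : ZMod 3).val = 0 from rfl, show (1 : ZMod 3).val = 1 from rfl,
      show (2 : ZMod 3).val = 2 from rfl, Fintype.card_multiplicative, ZMod.card, pow_zero, pow_one] at hn' hm'
    have hA : A₀ = ((n' - m' : ℤ) : ℂ) := by
      push_cast at hn' hm' ⊢
      linear_combination (hn' - hm' + A₀ * hsum) / 3
    obtain ⟨n, hn⟩ := twisted_sum j 1 χ
    obtain ⟨m, hm⟩ := twisted_sum j (pw _ (AddMonoidHom.fst (ZMod 3) (ZMod 2))) χ
    rw [show (∑ p : Multiplicative (ZMod 3 × ZMod 2), (χ : G → ℂ) (j p) * ((1 : Multiplicative (ZMod 3 × ZMod 2) →* ℂˣ) p : ℂ))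
        = _ from sum_three_two fun a b => (χ : G → ℂ) (j (Multiplicative.ofAdd (a, b))) * 1] at hn
    rw [show (∑ p : Multiplicative (ZMod 3 × ZMod 2), (χ : G → ℂ) (j p) * ((pw _ (AddMonoidHom.fst (ZMod 3) (ZMod 2))) p : ℂ))
        = _ from sum_three_two fun a b => (χ : G → ℂ) (j (Multiplicative.ofAdd (a, b))) * ((w ^ a.val : ℂˣ) : ℂ)] at hm
    simp only [h0, h01, (hv 1 (by decide)).1, (hv 2 (by decide)).1, (hv 1 (by decide)).2, (hv 2 (by decide)).2,
      Units.val_pow_eq_pow_val] at hn hm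
    simp only [show (0 : ZMod 3).val = 0 from rfl, show (1 : ZMod 3).val = 1 from rfl,
      show (2 : ZMod 3).val = 2 from rfl, Fintype.card_multiplicative, Fintype.card_prod, ZMod.card, pow_zero,
      pow_one] at hn hm
    have hAs : As₀ = ((2 * (n - m) - (n' - m') : ℤ) : ℂ) := by
      push_cast at hn hm ⊢
      rw [hA] at hn hm
      push_cast at hn hm
      linear_combination (hn - hm + ((n' : ℂ) - m' + As₀) * hsum) / 3
    refine ⟨n' - m', 2 * (n - m) - (n' - m'), x, hA, hAs, hx, ⟨n - m, by ring⟩, ?_⟩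
    have e : ((6 * n : ℤ) : ℂ) = (((deg χ : ℤ) + x + 2 * (n' - m') + 2 * (2 * (n - m) - (n' - m')) : ℤ) : ℂ) := by
      push_cast; rw [hA, hAs] at hn; push_cast at hn; linear_combination -hn
    have e2 : ((3 * n' : ℤ) : ℂ) = (((deg χ : ℤ) + 2 * (n' - m') : ℤ) : ℂ) := by
      push_cast; rw [hA] at hn'; push_cast at hn'; linear_combination -hn'
    have i1 : 6 * n = (deg χ : ℤ) + x + 2 * (n' - m') + 2 * (2 * (n - m) - (n' - m')) := by exact_mod_cast e
    have i2 : 3 * n' = (deg χ : ℤ) + 2 * (n' - m') := by exact_mod_cast e2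
    omega
  obtain ⟨A, As, x, hA, hAs, hx, hpA, hxA⟩ := six 0
  obtain ⟨B, Bs, y, hB, hBs, hy, hpB, hyB⟩ := six 1
  -- the plane
  let jM : Multiplicative (ZMod 3 × ZMod 3) →* G := Φ.comp SemidirectProduct.inl
  have hP : ∀ a b : ZMod 3, (a, b) ≠ (0, 0) →
      (χ : G → ℂ) (jM (Multiplicative.ofAdd (a, b))) = if a = 0 ∨ b = 0 then (A : ℂ) else B := by
    intro a b hab
    have := value_conj χ (isConj_map (Φ := Φ) (plane_conj a b hab))
    split_ifs at this ⊢
    · exact this.symm.trans hA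
    · exact this.symm.trans hB
  have hP0 : (χ : G → ℂ) (jM (Multiplicative.ofAdd (0, 0))) = deg χ := by
    rw [show (Multiplicative.ofAdd ((0, 0) : ZMod 3 × ZMod 3)) = 1 from rfl, map_one, deg_spec]
  obtain ⟨n, hn⟩ := twisted_sum jM 1 χ
  obtain ⟨m, hm⟩ := twisted_sum jM (pw _ (AddMonoidHom.fst (ZMod 3) (ZMod 3))) χ
  obtain ⟨l, hl⟩ := twisted_sum jM
    (pw _ (AddMonoidHom.fst (ZMod 3) (ZMod 3) + AddMonoidHom.snd (ZMod 3) (ZMod 3))) χ
  rw [show (∑ p : Multiplicative (ZMod 3 × ZMod 3), (χ : G → ℂ) (jM p) * ((1 : Multiplicative (ZMod 3 × ZMod 3) →* ℂˣ) p : ℂ))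
      = _ from sum_three_three fun a b => (χ : G → ℂ) (jM (Multiplicative.ofAdd (a, b))) * 1] at hn
  rw [show (∑ p : Multiplicative (ZMod 3 × ZMod 3), (χ : G → ℂ) (jM p) * ((pw _ (AddMonoidHom.fst (ZMod 3) (ZMod 3))) p : ℂ))
      = _ from sum_three_three fun a b => (χ : G → ℂ) (jM (Multiplicative.ofAdd (a, b))) * ((w ^ a.val : ℂˣ) : ℂ)] at hm
  rw [show (∑ p : Multiplicative (ZMod 3 × ZMod 3), (χ : G → ℂ) (jM p) *
        ((pw _ (AddMonoidHom.fst (ZMod 3) (ZMod 3) + AddMonoidHom.snd (ZMod 3) (ZMod 3))) p : ℂ))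
      = _ from sum_three_three fun a b => (χ : G → ℂ) (jM (Multiplicative.ofAdd (a, b))) * ((w ^ (a + b).val : ℂˣ) : ℂ)] at hl
  simp (discharger := decide) only [hP0, hP, if_pos, if_neg, Units.val_pow_eq_pow_val, true_or, or_true,
    reduceIte] at hn hm hl
  simp only [show ((0 : ZMod 3) + 0).val = 0 from rfl, show ((0 : ZMod 3) + 1).val = 1 from rfl,
    show ((0 : ZMod 3) + 2).val = 2 from rfl, show ((1 : ZMod 3) + 0).val = 1 from rfl,
    show ((1 : ZMod 3) + 1).val = 2 from rfl, show ((1 : ZMod 3) + 2).val = 0 from rfl,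
    show ((2 : ZMod 3) + 0).val = 2 from rfl, show ((2 : ZMod 3) + 1).val = 0 from rfl,
    show ((2 : ZMod 3) + 2).val = 1 from rfl, show (0 : ZMod 3).val = 0 from rfl,
    show (1 : ZMod 3).val = 1 from rfl, show (2 : ZMod 3).val = 2 from rfl, Fintype.card_multiplicative,
    Fintype.card_prod, ZMod.card, pow_zero, pow_one] at hn hm hl
  have i1 : (deg χ : ℤ) + 4 * A + 4 * B = 9 * n := by
    have : (((deg χ : ℤ) + 4 * A + 4 * B : ℤ) : ℂ) = ((9 * n : ℤ) : ℂ) := by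
      push_cast at hn ⊢; linear_combination hn
    exact_mod_cast this
  have i2 : (deg χ : ℤ) + A - 2 * B = 9 * m := by
    have : (((deg χ : ℤ) + A - 2 * B : ℤ) : ℂ) = ((9 * m : ℤ) : ℂ) := by
      push_cast at hm ⊢; linear_combination hm - ((A : ℂ) + 2 * B) * hsum
    exact_mod_cast this
  have i3 : (deg χ : ℤ) - 2 * A + B = 9 * l := by
    have : (((deg χ : ℤ) - 2 * A + B : ℤ) : ℂ) = ((9 * l : ℤ) : ℂ) := by
      push_cast at hl ⊢; linear_combination hl - (2 * (A : ℂ) + B) * hsum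
    exact_mod_cast this
  obtain ⟨k, hk⟩ : (3 : ℤ) ∣ A + 2 * B := ⟨n - m, by omega⟩
  obtain ⟨k', hk'⟩ : (3 : ℤ) ∣ 2 * A + B := ⟨n - l, by omega⟩
  obtain ⟨c₀, hc₀⟩ : (2 : ℤ) ∣ k + As := by omega
  obtain ⟨c₁, hc₁⟩ : (2 : ℤ) ∣ k' + Bs := by omega
  refine ⟨![-c₀, -c₁, As - c₀, Bs - c₁], x, y, ?_, ?_, ?_, ?_, hx, hy, ?_, ?_, ?_⟩
  · refine hA.trans ?_; norm_cast; simp; omega
  · refine hB.trans ?_; norm_cast; simp; omega
  · refine hAs.trans ?_; norm_cast; simp
  · refine hBs.trans ?_; norm_cast; simp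
  · simpa using hxA
  · simpa using hyB
  · simp; omega

/-- The involutions of `G` conjugate to one of the allowed kinds. -/
noncomputable def invSet (Φ : Local72 →* G) (p : Fin 3 → Bool) : Finset G := by
  classical exact Finset.univ.filter fun x => ∃ k, p k = true ∧ IsConj (Φ (invRep k)) x

theorem mem_invSet {p : Fin 3 → Bool} {x : G} :
    x ∈ invSet Φ p ↔ ∃ k, p k = true ∧ IsConj (Φ (invRep k)) x := by
  simp [invSet]

theorem invSet_sq {p : Fin 3 → Bool} {x : G} (hx : x ∈ invSet Φ p) : x * x = 1 := by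
  obtain ⟨k, -, hk⟩ := mem_invSet.mp hx
  obtain ⟨g, rfl⟩ := isConj_iff.mp hk
  rw [conj_mul, ← map_mul, (invRep_spec k).1, map_one]; simp

/-- Allowed kinds are unions of fusion classes. -/
def Closed (Φ : Local72 →* G) (p : Fin 3 → Bool) : Prop :=
  ∀ k l, IsConj (Φ (invRep k)) (Φ (invRep l)) → p k = true → p l = true

theorem Loc.mem_trace (h : Loc Φ) {p : Fin 3 → Bool} (hp : Closed Φ p) (a : Local72) :
    Φ a ∈ invSet Φ p ↔ a * a = 1 ∧ a ≠ 1 ∧ p (invKind a) = true := by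
  constructor
  · intro hm
    obtain ⟨k, hk, hc⟩ := mem_invSet.mp hm
    have ha : a * a = 1 := h.inj (by rw [map_mul, map_one, invSet_sq hm])
    have ha1 : a ≠ 1 := by
      rintro rfl
      rw [map_one, isConj_one_left] at hc
      exact (invRep_spec k).2.1 (h.inj (hc.trans (map_one Φ).symm))
    exact ⟨ha, ha1, hp k _ (hc.trans (isConj_map (involution_conj a ha ha1)).symm) hk⟩
  · rintro ⟨ha, ha1, hk⟩
    exact mem_invSet.mpr ⟨_, hk, isConj_map (involution_conj a ha ha1)⟩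

theorem invSet_conj {p : Fin 3 → Bool} {x : G} (hx : x ∈ invSet Φ p) (g : G) : g * x * g⁻¹ ∈ invSet Φ p := by
  obtain ⟨k, hk, hc⟩ := mem_invSet.mp hx
  exact mem_invSet.mpr ⟨k, hk, hc.trans (isConj_iff.mpr ⟨g, rfl⟩)⟩

/-- The sum of `χ` over a set. -/
noncomputable def total (S : Finset G) (χ : IrrCharacter G) : ℂ := ∑ x ∈ S, (χ : G → ℂ) x

theorem sum_shift {S : Finset G} (hS : ∀ x ∈ S, ∀ g, g * x * g⁻¹ ∈ S) (χ : IrrCharacter G) (u : G) :
    ∑ a ∈ S, (χ : G → ℂ) (a * u) = total S χ * (χ : G → ℂ) u / (χ : G → ℂ) 1 := by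
  have h : ∀ g : G, ∑ a ∈ S, (χ : G → ℂ) (g * a * g⁻¹ * u) = ∑ a ∈ S, (χ : G → ℂ) (a * u) := fun g => by
    refine Finset.sum_bij (fun a _ => g * a * g⁻¹) (fun a ha => hS a ha g) (fun a _ b _ e => by simpa using e)
      (fun b hb => ⟨g⁻¹ * b * g, by simpa using hS b hb g⁻¹, by group⟩) fun a _ => rfl
  refine mul_left_cancel₀ (card_ne_zero' (G := G)) ?_
  calc (Nat.card G : ℂ) * ∑ a ∈ S, (χ : G → ℂ) (a * u) = ∑ g : G, ∑ a ∈ S, (χ : G → ℂ) (g * a * g⁻¹ * u) := by
        simp only [h, Finset.sum_const, Finset.card_univ, nsmul_eq_mul, Nat.card_eq_fintype_card]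
    _ = ∑ a ∈ S, (Nat.card G : ℂ) * (χ : G → ℂ) a * (χ : G → ℂ) u / (χ : G → ℂ) 1 := by
        rw [Finset.sum_comm]
        exact Finset.sum_congr rfl fun a _ => sum_char_conj_mul χ.2 a u
    _ = _ := by rw [total, Finset.sum_mul, Finset.sum_div, Finset.mul_sum]; exact Finset.sum_congr rfl fun a _ => by ring

theorem Loc.pairs_card (h : Loc Φ) {p q : Fin 3 → Bool} (hp : Closed Φ p) (hq : Closed Φ q) (k : Fin 4)
    [DecidableEq G] :
    ((invSet Φ p ×ˢ invSet Φ q).filter fun z => z.1 * z.2 = Φ (rep k)).card = pairCount p q k := by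
  refine (Finset.card_bij (fun a _ => (Φ a, Φ (a * rep k))) ?_ ?_ ?_).symm
  · intro a ha
    obtain ⟨-, h1, h2, h3, h4, h5, h6⟩ := Finset.mem_filter.mp ha
    refine Finset.mem_filter.mpr ⟨Finset.mem_product.mpr
      ⟨(h.mem_trace hp a).mpr ⟨h1, h2, h3⟩, (h.mem_trace hq _).mpr ⟨h4, h5, h6⟩⟩, ?_⟩
    rw [← map_mul, ← mul_assoc, h1, one_mul]
  · exact fun a _ b _ e => h.inj (congrArg Prod.fst e)
  · rintro ⟨x, x'⟩ hz
    obtain ⟨hm, he⟩ := Finset.mem_filter.mp hz
    obtain ⟨hx, hx'⟩ := Finset.mem_product.mp hm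
    simp only at he hx hx'
    have e1 := invSet_sq hx
    have e2 := invSet_sq hx'
    have hx'e : x' = x * Φ (rep k) := by rw [← he, ← mul_assoc, e1, one_mul]
    have hinv : x * Φ (rep k) * x⁻¹ = (Φ (rep k))⁻¹ := by
      rw [← he, mul_inv_rev, inv_eq_of_mul_eq_one_left e1, inv_eq_of_mul_eq_one_left e2, ← mul_assoc, e1, one_mul]
    obtain ⟨a, rfl⟩ := h.fus (rep k ^ 4) (rep k ^ 4)⁻¹ (rep_pow k).2 (rep_pow k).1
      (by rw [inv_pow, (rep_pow k).2, inv_one]) x (by rw [map_inv, map_pow, ← conj_pow, hinv, inv_pow])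
    rw [← map_mul] at hx'e
    obtain ⟨h1, h2, h3⟩ := (h.mem_trace hp a).mp hx
    obtain ⟨h4, h5, h6⟩ := (h.mem_trace hq _).mp (hx'e ▸ hx')
    exact ⟨a, Finset.mem_filter.mpr ⟨Finset.mem_univ _, h1, h2, h3, h4, h5, h6⟩, by rw [hx'e]⟩

/-- The structure constant at an exceptional class. -/
theorem Loc.pairs (h : Loc Φ) {p q : Fin 3 → Bool} (hp : Closed Φ p) (hq : Closed Φ q) (k : Fin 4) :
    ∑ χ : IrrCharacter G, (total (invSet Φ p) χ - (invSet Φ p).card * (χ : G → ℂ) 1) *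
        (total (invSet Φ q) χ - (invSet Φ q).card * (χ : G → ℂ) 1) * val Φ χ k / (χ : G → ℂ) 1 =
      (Nat.card G : ℂ) * pairCount p q k := by
  classical
  set S := invSet Φ p
  set T := invSet Φ q
  set y := Φ (rep k) with hy
  have hS : ∀ x ∈ S, ∀ g, g * x * g⁻¹ ∈ S := fun x hx g => invSet_conj hx g
  have hT : ∀ x ∈ T, ∀ g, g * x * g⁻¹ ∈ T := fun x hx g => invSet_conj hx g
  have hr : IsConj y y⁻¹ := by rw [hy, ← map_inv]; exact isConj_map (rep_real k)
  have main : ∑ χ : IrrCharacter G, total S χ * total T χ * val Φ χ k / (χ : G → ℂ) 1 =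
      (Nat.card G : ℂ) * pairCount p q k := by
    calc _ = ∑ χ : IrrCharacter G, ∑ a ∈ S, ∑ b ∈ T, (χ : G → ℂ) 1 * (χ : G → ℂ) (a * b * y⁻¹) := by
          refine Finset.sum_congr rfl fun χ _ => ?_
          have h1 := irr_one_ne_zero χ.2
          simp only [mul_assoc _ _ y⁻¹, ← Finset.mul_sum]
          rw [Finset.sum_comm (s := S)]
          simp only [sum_shift hS χ, ← Finset.sum_div, ← Finset.mul_sum, sum_shift hT χ,
            ← value_conj χ hr]
          rw [val]; field_simp; rw [hy]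
      _ = ∑ a ∈ S, ∑ b ∈ T, if a * b * y⁻¹ = 1 then (Nat.card G : ℂ) else 0 := by
          rw [Finset.sum_comm]
          refine Finset.sum_congr rfl fun a _ => ?_
          rw [Finset.sum_comm]
          exact Finset.sum_congr rfl fun b _ => sum_degree_mul_apply _
      _ = _ := by
          rw [← Finset.sum_product', Finset.sum_ite, Finset.sum_const_zero, add_zero, Finset.sum_const,
            nsmul_eq_mul, mul_comm]
          simp only [mul_inv_eq_one, hy]
          rw [h.pairs_card hp hq k]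
  have z1 : ∀ U : Finset G, (∀ x ∈ U, x * x = 1) → ∑ χ : IrrCharacter G, total U χ * val Φ χ k = 0 := by
    intro U hU
    simp only [total, Finset.sum_mul]
    rw [Finset.sum_comm]
    exact Finset.sum_eq_zero fun x hx => h.orth_other (hU x hx) k
  have z2 : ∑ χ : IrrCharacter G, (χ : G → ℂ) 1 * val Φ χ k = 0 := h.orth_other (one_mul 1) k
  rw [← main, ← sub_eq_zero, ← Finset.sum_sub_distrib]
  calc _ = ∑ χ : IrrCharacter G, (-(T.card : ℂ) * (total S χ * val Φ χ k) - (S.card : ℂ) * (total T χ * val Φ χ k) +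
        (S.card : ℂ) * T.card * ((χ : G → ℂ) 1 * val Φ χ k)) := by
        refine Finset.sum_congr rfl fun χ _ => ?_
        have h1 := irr_one_ne_zero χ.2
        field_simp
        ring
    _ = 0 := by
        rw [Finset.sum_add_distrib, Finset.sum_sub_distrib, ← Finset.mul_sum, ← Finset.mul_sum, ← Finset.mul_sum,
          z1 S fun x hx => invSet_sq hx, z1 T fun x hx => invSet_sq hx, z2]
        ring

end CfsgLib.SmallGroups.DihedralThree
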