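import Mathlib

/-!
The quadratic equations between the exceptional degrees and the involution sums.
-/

set_option autoImplicit false

namespace CfsgLib.SmallGroups.DihedralThree

/-- Completeness of `d, u, w` on three coordinates. -/
theorem complete_three (d u w : Fin 3 → ℚ) (hd : ∀ i, d i ≠ 0) {a b : ℚ} (ha : a ≠ 0) (hb : b ≠ 0)
    (h1 : ∑ i, d i = 1) (hu : ∑ i, u i = 0) (hw : ∑ i, w i = 0)
    (huu : ∑ i, u i * u i / d i = a) (hww : ∑ i, w i * w i / d i = b)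
    (huw : ∑ i, u i * w i / d i = 0) (i j : Fin 3) :
    (if i = j then d i else 0) = d i * d j + u i * u j / a + w i * w j / b := by
  let P : Matrix (Fin 3) (Fin 3) ℚ := Matrix.of fun k l => ![1, u l / d l / a, w l / d l / b] k
  let Q : Matrix (Fin 3) (Fin 3) ℚ := Matrix.of fun l k => ![d l, u l, w l] k
  have hPQ : P * Q = 1 := by
    have h' : ∀ (f g : Fin 3 → ℚ) (c : ℚ), ∑ l, f l / d l / c * g l = (∑ l, f l * g l / d l) / c := by
      intro f g c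
      rw [Finset.sum_div]
      exact Finset.sum_congr rfl fun l _ => by ring
    have hud : ∑ l, u l * d l / d l = 0 := by
      rw [← hu]; exact Finset.sum_congr rfl fun l _ => by field_simp [hd l]
    have hwd : ∑ l, w l * d l / d l = 0 := by
      rw [← hw]; exact Finset.sum_congr rfl fun l _ => by field_simp [hd l]
    have hwu : ∑ l, w l * u l / d l = 0 := by
      rw [← huw]; exact Finset.sum_congr rfl fun l _ => by ring
    ext k m
    fin_cases k <;> fin_cases m <;>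
      simp [Matrix.mul_apply, Matrix.of_apply, P, Q, h', h1, hu, hw, huu, hww, huw, hud, hwd, hwu, ha, hb]
  have hQP : Q * P = 1 := mul_eq_one_comm.mp hPQ
  have h := Matrix.ext_iff.mpr hQP i j
  simp only [Matrix.mul_apply, Matrix.of_apply, P, Q, Fin.sum_univ_three, Matrix.one_apply] at h
  simp only [Matrix.cons_val_zero, Matrix.cons_val_one, Matrix.cons_val, mul_one] at h
  split_ifs at h ⊢ with hij
  · subst hij
    have := hd i
    field_simp at h ⊢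
    linear_combination -h
  · have := hd j
    field_simp at h ⊢
    linear_combination -h

theorem pair_three (d u w : Fin 3 → ℚ) (hd : ∀ i, d i ≠ 0) {a b : ℚ} (ha : a ≠ 0) (hb : b ≠ 0)
    (h1 : ∑ i, d i = 1) (hu : ∑ i, u i = 0) (hw : ∑ i, w i = 0)
    (huu : ∑ i, u i * u i / d i = a) (hww : ∑ i, w i * w i / d i = b)
    (huw : ∑ i, u i * w i / d i = 0) {i j : Fin 3} (hij : i ≠ j) :
    d i * d j * (d i + d j) =
      (u j * d i - u i * d j) ^ 2 / a + (w j * d i - w i * d j) ^ 2 / b := by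
  have c := complete_three d u w hd ha hb h1 hu hw huu hww huw
  have h1 := c i i; have h2 := c j j; have h3 := c i j
  rw [if_pos rfl] at h1 h2; rw [if_neg hij] at h3
  linear_combination (d j) ^ 2 * h1 + (d i) ^ 2 * h2 - 2 * d i * d j * h3

/-- Four coordinates with `d` isotropic: the norm of a difference. -/
theorem pair_four (d u w : Fin 4 → ℚ) (hd : ∀ i, d i ≠ 0) {a b : ℚ} (ha : a ≠ 0) (hb : b ≠ 0)
    (h0 : ∑ i, d i = 0) (hu : ∑ i, u i = 0) (hw : ∑ i, w i = 0)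
    (huu : ∑ i, u i * u i / d i = a) (hww : ∑ i, w i * w i / d i = b)
    (huw : ∑ i, u i * w i / d i = 0) {i j : Fin 4} (hij : i ≠ j) :
    d i * d j * (d i + d j) =
      (u j * d i - u i * d j) ^ 2 / a + (w j * d i - w i * d j) ^ 2 / b := by
  classical
  let Q : (Fin 4 → ℚ) → (Fin 4 → ℚ) → ℚ := fun x y => ∑ l, x l * y l / d l
  let f : Fin 4 → ℚ := Pi.single 0 1
  let e₁ : Fin 4 → ℚ := fun l => f l - Q f u / a * u l - Q f w / b * w l
  let e : Fin 4 → ℚ := fun l => e₁ l - Q e₁ e₁ / 2 * d l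
  have hQd : ∀ x : Fin 4 → ℚ, Q x d = ∑ l, x l := fun x =>
    Finset.sum_congr rfl fun l _ => by field_simp [hd l]
  have hsym : ∀ x y, Q x y = Q y x := fun x y => Finset.sum_congr rfl fun l _ => by ring
  have hlin : ∀ (x y z : Fin 4 → ℚ) (c : ℚ), Q (fun l => x l - c * y l) z = Q x z - c * Q y z := by
    intro x y z c
    simp only [Q, Finset.mul_sum, ← Finset.sum_sub_distrib]
    exact Finset.sum_congr rfl fun l _ => by ring
  have hf1 : Q f d = 1 := by rw [hQd]; simp [f]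
  have hud : Q u d = 0 := by rw [hQd]; exact hu
  have hwd : Q w d = 0 := by rw [hQd]; exact hw
  have hdd : Q d d = 0 := by rw [hQd]; exact h0
  have he1d : Q e₁ d = 1 := by simp only [e₁, hlin, hf1, hud, hwd]; ring
  have he1u : Q e₁ u = 0 := by
    simp only [e₁, hlin, hsym w u, show Q u u = a from huu, show Q u w = 0 from huw]
    field_simp; ring
  have he1w : Q e₁ w = 0 := by
    simp only [e₁, hlin, show Q w w = b from hww, show Q u w = 0 from huw]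
    field_simp; ring
  have hed : Q e d = 1 := by simp only [e, hlin, he1d, hdd]; ring
  have heu : Q e u = 0 := by simp only [e, hlin, he1u, hsym d u, hud]; ring
  have hew : Q e w = 0 := by simp only [e, hlin, he1w, hsym d w, hwd]; ring
  have hee : Q e e = 0 := by
    have h := hlin e₁ d e (Q e₁ e₁ / 2)
    rw [hsym d e, hed, hsym e₁ e] at h
    have h' : Q e e₁ = Q e₁ e₁ - Q e₁ e₁ / 2 := by
      simp only [e, hlin, hsym d e₁, he1d]; ring
    rw [show (fun l => e₁ l - Q e₁ e₁ / 2 * d l) = e from rfl, h'] at h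
    linear_combination h
  let P : Matrix (Fin 4) (Fin 4) ℚ := Matrix.of fun k l => ![e l / d l, 1, u l / d l / a, w l / d l / b] k
  let B : Matrix (Fin 4) (Fin 4) ℚ := Matrix.of fun l k => ![d l, e l, u l, w l] k
  have hPB : P * B = 1 := by
    have h' : ∀ (x y : Fin 4 → ℚ), ∑ l, x l / d l * y l = Q x y := fun x y =>
      Finset.sum_congr rfl fun l _ => by ring
    have h'' : ∀ (x y : Fin 4 → ℚ) (c : ℚ), ∑ l, x l / d l / c * y l = Q x y / c := fun x y c => by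
      simp only [Q, Finset.sum_div]
      exact Finset.sum_congr rfl fun l _ => by ring
    have hde : Q d e = 1 := (hsym d e).trans hed
    have hes : ∑ l, e l = 1 := by rw [← hQd, hed]
    ext k m
    fin_cases k <;> fin_cases m <;>
      simp [Matrix.mul_apply, Matrix.of_apply, P, B, h', h'', h0, hu, hw, hes, hed, hee, heu, hew, hud, hwd, hsym u e,
        hsym w e, hsym w u, show Q u u = a from huu, show Q w w = b from hww, show Q u w = 0 from huw,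
        ha, hb]
  have hBP' : B * P = 1 := mul_eq_one_comm.mp hPB
  have hBP := Matrix.ext_iff.mpr hBP'
  have c : ∀ i j, (if i = j then (1 : ℚ) else 0) * d j =
      d i * e j + e i * d j + u i * u j / a + w i * w j / b := by
    intro i j
    have h := hBP i j
    simp only [Matrix.mul_apply, Matrix.of_apply, P, B, Fin.sum_univ_four, Matrix.one_apply] at h
    simp only [Matrix.cons_val_zero, Matrix.cons_val_one, Matrix.cons_val, mul_one] at h
    rw [← h]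
    have := hd j
    field_simp
  have h1 := c i i; have h2 := c j j; have h3 := c i j
  rw [if_pos rfl] at h1 h2; rw [if_neg hij] at h3
  linear_combination (d j) ^ 2 * h1 + (d i) ^ 2 * h2 - 2 * d i * d j * h3

/-- The sums `∑ d, ∑ u, ∑ w` and the three products over three signed characters. -/
structure Row3 (d u w : Fin 3 → ℤ) (g uu ww uw : ℚ) : Prop where
  sd : ∑ i, d i = 1
  su : ∑ i, u i = 0
  sw : ∑ i, w i = 0
  quu : ∑ i, (u i : ℚ) * u i / d i = uu * g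
  qww : ∑ i, (w i : ℚ) * w i / d i = ww * g
  quw : ∑ i, (u i : ℚ) * w i / d i = uw * g

/-- The same on four characters with degree sum zero. -/
structure Row4 (d u w : Fin 4 → ℤ) (g uu ww uw : ℚ) : Prop where
  sd : ∑ i, d i = 0
  su : ∑ i, u i = 0
  sw : ∑ i, w i = 0
  quu : ∑ i, (u i : ℚ) * u i / d i = uu * g
  qww : ∑ i, (w i : ℚ) * w i / d i = ww * g
  quw : ∑ i, (u i : ℚ) * w i / d i = uw * g

/-- Branches excluded modulo `9`. -/
theorem no_branch_mul {R q G₀ D : ℤ} (hR : (9 : ℤ) ∣ R - 7) (hq : (9 : ℤ) ∣ q - 8)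
    (hG : (3 : ℤ) ∣ G₀ - 2) (h : q * R * (q + R) * G₀ = -51 * D ^ 2) (hD : ¬ (3 : ℤ) ∣ D) : False := by
  have key : ∀ r s g v : ZMod 9, r = 7 → s = 8 → (3 * g = 6) → (3 * v ≠ 0) →
      s * r * (s + r) * g ≠ -51 * v ^ 2 := by decide
  have c9 : ∀ a b : ℤ, (9 : ℤ) ∣ a - b → (a : ZMod 9) = b := fun a b hh => by
    rw [← sub_eq_zero, ← Int.cast_sub, ZMod.intCast_zmod_eq_zero_iff_dvd]; exact hh
  refine key R q G₀ D (by exact_mod_cast c9 R 7 hR) (by exact_mod_cast c9 q 8 hq)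
    (by exact_mod_cast c9 (3 * G₀) 6 (by omega)) ?_ (by exact_mod_cast congrArg (Int.cast : ℤ → ZMod 9) h)
  intro h0
  have : (9 : ℤ) ∣ 3 * D := by
    have := (ZMod.intCast_zmod_eq_zero_iff_dvd (3 * D) 9).mp (by exact_mod_cast h0)
    exact this
  omega

theorem no_branch_nine {R q G₀ D : ℤ} (hR : (9 : ℤ) ∣ R - 7) (hq : (9 : ℤ) ∣ q - 8)
    (hG : (3 : ℤ) ∣ G₀ - 2) (h : 49 * (q * R * (q + R) * G₀) = -99 * D ^ 2) : False := by
  have key : ∀ r s g v : ZMod 9, r = 7 → s = 8 → (3 * g = 6) →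
      49 * (s * r * (s + r) * g) ≠ -99 * v ^ 2 := by decide
  have c9 : ∀ a b : ℤ, (9 : ℤ) ∣ a - b → (a : ZMod 9) = b := fun a b hh => by
    rw [← sub_eq_zero, ← Int.cast_sub, ZMod.intCast_zmod_eq_zero_iff_dvd]; exact hh
  exact key R q G₀ D (by exact_mod_cast c9 R 7 hR) (by exact_mod_cast c9 q 8 hq)
    (by exact_mod_cast c9 (3 * G₀) 6 (by omega)) (by exact_mod_cast congrArg (Int.cast : ℤ → ZMod 9) h)

theorem no_branch_r {R G₀ W : ℤ} (hR : (9 : ℤ) ∣ R - 7) (hG : (3 : ℤ) ∣ G₀ - 2)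
    (h : 49 * (R * (R - 1) * G₀) = 99 * W ^ 2) : False := by
  have key : ∀ r g v : ZMod 9, r = 7 → (3 * g = 6) → 49 * (r * (r - 1) * g) ≠ 99 * v ^ 2 := by decide
  have c9 : ∀ a b : ℤ, (9 : ℤ) ∣ a - b → (a : ZMod 9) = b := fun a b hh => by
    rw [← sub_eq_zero, ← Int.cast_sub, ZMod.intCast_zmod_eq_zero_iff_dvd]; exact hh
  exact key R G₀ W (by exact_mod_cast c9 R 7 hR) (by exact_mod_cast c9 (3 * G₀) 6 (by omega))
    (by exact_mod_cast congrArg (Int.cast : ℤ → ZMod 9) h)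

/-- The signed degrees force one of them to be `-1`. Rows: `(p₄, q₁, R)`, `(p₃, q₂, R)`,
`(p₂, q₄, q₂, R)`, `(p₁, q₄, q₁, R)`. -/
theorem main {g G₀ : ℤ} (hg : g = 9 * G₀) (hg0 : 0 < g) (hG : (3 : ℤ) ∣ G₀ - 2)
    {p₁ p₂ p₃ p₄ q₁ q₂ q₄ R : ℤ} {a₁ a₂ a₃ a₄ u₁ u₂ u₄ U : ℤ} {b₁ b₂ b₃ b₄ w₁ w₂ w₄ W : ℤ}
    (hne : p₁ ≠ 0 ∧ p₂ ≠ 0 ∧ p₃ ≠ 0 ∧ p₄ ≠ 0 ∧ q₁ ≠ 0 ∧ q₂ ≠ 0 ∧ q₄ ≠ 0 ∧ R ≠ 0)
    (E1 : Row3 ![p₄, q₁, R] ![a₄, u₁, U] ![b₄, w₁, W] g (-8) (-1) 0)
    (E2 : Row3 ![p₃, q₂, R] ![a₃, u₂, U] ![b₃, w₂, W] g (-11/2) (-1/2) (-3/2))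
    (E3 : Row4 ![p₂, q₄, q₂, R] ![a₂, u₄, u₂, U] ![b₂, w₄, w₂, W] g (-2) (-1) 0)
    (E4 : Row4 ![p₁, q₄, q₁, R] ![a₁, u₄, u₁, U] ![b₁, w₄, w₁, W] g (-11/2) (-1/2) (3/2))
    (hR : (9 : ℤ) ∣ R - 7) (hq₁ : (9 : ℤ) ∣ q₁ - 8) (hq₂ : (9 : ℤ) ∣ q₂ - 8) (hq₄ : (9 : ℤ) ∣ q₄ - 8)
    {W₀ z₂ z₄ : ℤ} (hW : W = 3 * W₀) (hw₂ : w₂ = 3 * z₂) (hw₄ : w₄ = 3 * z₄)
    (hw₁ : (3 : ℤ) ∣ w₁)
    (hΔ₂ : ¬ (3 : ℤ) ∣ z₂ * R - W₀ * q₂) (hΔ₄ : ¬ (3 : ℤ) ∣ z₄ * R - W₀ * q₄) : q₄ = -1 := by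
  obtain ⟨hp₁, hp₂, hp₃, hp₄, hq1n, hq2n, hq4n, hRn⟩ := hne
  have nz3 : ∀ a b c : ℤ, a ≠ 0 → b ≠ 0 → c ≠ 0 → ∀ i : Fin 3, ((![a, b, c] i : ℤ) : ℚ) ≠ 0 := by
    intro a b c ha hb hc i; fin_cases i <;> simpa
  have nz4 : ∀ a b c e : ℤ, a ≠ 0 → b ≠ 0 → c ≠ 0 → e ≠ 0 →
      ∀ i : Fin 4, ((![a, b, c, e] i : ℤ) : ℚ) ≠ 0 := by
    intro a b c e ha hb hc he i; fin_cases i <;> simpa
  have hgQ : (g : ℚ) ≠ 0 := by exact_mod_cast hg0.ne'
  -- three coordinates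
  set d₁ : Fin 3 → ℚ := fun i => (![p₄, q₁, R] i : ℤ) with hd₁
  have A1 := complete_three d₁ (fun i => (![a₄, u₁, U] i : ℤ)) (fun i => (![b₄, w₁, W] i : ℤ))
    (nz3 _ _ _ hp₄ hq1n hRn) (a := -8 * g) (b := -1 * g) (by simpa using hgQ) (by simpa using hgQ)
    (by simp only [hd₁]; exact_mod_cast E1.sd) (by exact_mod_cast E1.su) (by exact_mod_cast E1.sw) E1.quu E1.qww
    (by simpa using E1.quw)
  have P1 := pair_three d₁ (fun i => (![a₄, u₁, U] i : ℤ)) (fun i => (![b₄, w₁, W] i : ℤ))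
    (nz3 _ _ _ hp₄ hq1n hRn) (a := -8 * g) (b := -1 * g) (by simpa using hgQ) (by simpa using hgQ)
    (by simp only [hd₁]; exact_mod_cast E1.sd) (by exact_mod_cast E1.su) (by exact_mod_cast E1.sw) E1.quu E1.qww
    (by simpa using E1.quw) (show (2 : Fin 3) ≠ 1 by decide)
  set d₂ : Fin 3 → ℚ := fun i => (![p₃, q₂, R] i : ℤ) with hd₂
  set A₂ : Fin 3 → ℚ := fun i => (![a₃, u₂, U] i : ℤ) - 3 * (![b₃, w₂, W] i : ℤ) with hA₂
  have sA2 : ∑ i, A₂ i = 0 := by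
    simp only [hA₂, Finset.sum_sub_distrib, ← Finset.mul_sum, ← Int.cast_sum, E2.su, E2.sw]; simp
  have qA2 : ∑ i, A₂ i * A₂ i / d₂ i = -1 * (g : ℚ) := by
    have h1 := E2.quu; have h2 := E2.qww; have h3 := E2.quw
    simp only [hA₂, hd₂, Fin.sum_univ_three] at h1 h2 h3 ⊢
    linear_combination h1 - 6 * h3 + 9 * h2
  have qA2w : ∑ i, A₂ i * ((![b₃, w₂, W] i : ℤ) : ℚ) / d₂ i = 0 := by
    have h2 := E2.qww; have h3 := E2.quw
    simp only [hA₂, hd₂, Fin.sum_univ_three] at h2 h3 ⊢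
    linear_combination h3 - 3 * h2
  have A2 := complete_three d₂ A₂ (fun i => (![b₃, w₂, W] i : ℤ)) (nz3 _ _ _ hp₃ hq2n hRn)
    (a := -1 * g) (b := -1/2 * g) (by simpa using hgQ) (by simpa using hgQ)
    (by simp only [hd₂]; exact_mod_cast E2.sd) sA2 (by exact_mod_cast E2.sw) qA2 E2.qww qA2w
  have P2 := pair_three d₂ A₂ (fun i => (![b₃, w₂, W] i : ℤ)) (nz3 _ _ _ hp₃ hq2n hRn)
    (a := -1 * g) (b := -1/2 * g) (by simpa using hgQ) (by simpa using hgQ)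
    (by simp only [hd₂]; exact_mod_cast E2.sd) sA2 (by exact_mod_cast E2.sw) qA2 E2.qww qA2w
    (show (2 : Fin 3) ≠ 1 by decide)
  -- four coordinates
  have P3 := fun (i j : Fin 4) (h : i ≠ j) => pair_four (fun i => ((![p₂, q₄, q₂, R] i : ℤ) : ℚ))
    (fun i => (![a₂, u₄, u₂, U] i : ℤ)) (fun i => (![b₂, w₄, w₂, W] i : ℤ))
    (nz4 _ _ _ _ hp₂ hq4n hq2n hRn) (a := -2 * g) (b := -1 * g) (by simpa using hgQ)
    (by simpa using hgQ) (by exact_mod_cast E3.sd) (by exact_mod_cast E3.su) (by exact_mod_cast E3.sw)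
    E3.quu E3.qww (by simpa using E3.quw) h
  set d₄ : Fin 4 → ℚ := fun i => (![p₁, q₄, q₁, R] i : ℤ) with hd₄
  set Z : Fin 4 → ℚ := fun i => (![a₁, u₄, u₁, U] i : ℤ) + 3 * (![b₁, w₄, w₁, W] i : ℤ) with hZ
  have sZ : ∑ i, Z i = 0 := by
    simp only [hZ, Finset.sum_add_distrib, ← Finset.mul_sum, ← Int.cast_sum, E4.su, E4.sw]; simp
  have qZ : ∑ i, Z i * Z i / d₄ i = -1 * (g : ℚ) := by
    have h1 := E4.quu; have h2 := E4.qww; have h3 := E4.quw
    simp only [hZ, hd₄, Fin.sum_univ_four] at h1 h2 h3 ⊢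
    linear_combination h1 + 6 * h3 + 9 * h2
  have qZw : ∑ i, Z i * ((![b₁, w₄, w₁, W] i : ℤ) : ℚ) / d₄ i = 0 := by
    have h2 := E4.qww; have h3 := E4.quw
    simp only [hZ, hd₄, Fin.sum_univ_four] at h2 h3 ⊢
    linear_combination h3 + 3 * h2
  have P4 := fun (i j : Fin 4) (h : i ≠ j) => pair_four d₄ Z (fun i => (![b₁, w₄, w₁, W] i : ℤ))
    (nz4 _ _ _ _ hp₁ hq4n hq1n hRn) (a := -1 * g) (b := -1/2 * g) (by simpa using hgQ)
    (by simpa using hgQ) (by simp only [hd₄]; exact_mod_cast E4.sd) sZ (by exact_mod_cast E4.sw) qZ E4.qww qZw h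
  -- the equations, cleared
  have e1 := A1 2 2
  have e2 := A2 2 2
  have o1 := A1 2 1
  have o2 := A2 2 1
  have p13 := P4 3 2 (by decide)
  have p14 := P4 3 1 (by decide)
  have p23 := P3 3 2 (by decide)
  have p24 := P3 3 1 (by decide)
  have p34 := P3 2 1 (by decide)
  simp only [hd₁, hd₂, hd₄, hA₂, hZ, if_pos rfl, Matrix.cons_val_zero, Matrix.cons_val_one,
    Matrix.cons_val, show (2 : Fin 3) ≠ 1 by decide, if_false, reduceIte] at e1 e2 o1 o2 P1 P2 p13 p14 p23 p24 p34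
  field_simp at e1 e2 o1 o2 P1 P2 p13 p14 p23 p24 p34
  have z_eq : ∀ x y : ℤ, (x : ℚ) = y → x = y := fun x y h => by exact_mod_cast h
  have ie1 : 8 * (R * (R - 1) * g) = U ^ 2 + 8 * W ^ 2 := z_eq _ _ (by push_cast; linear_combination -e1)
  have ie2 : R * (R - 1) * g = (U - 3 * W) ^ 2 + 2 * W ^ 2 := z_eq _ _ (by push_cast; linear_combination -e2)
  -- `U = 4W`
  have hU : U = 4 * W := by
    have : (U - 4 * W) * (7 * U - 20 * W) = 0 := by linear_combination ie1 - 8 * ie2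
    rcases mul_eq_zero.mp this with h | h
    · omega
    · exfalso
      refine no_branch_r hR hG (W := W₀) ?_
      have h20 : 7 * U = 20 * W := by omega
      have : 49 * (8 * (R * (R - 1) * g)) = 400 * W ^ 2 + 392 * W ^ 2 := by
        rw [ie1]; linear_combination (7 * U + 20 * W) * h20
      subst hW hg
      linarith
  have ie : R * (R - 1) * g = 3 * W ^ 2 := by rw [hU] at ie2; linear_combination ie2
  have hW0 : W ≠ 0 := by
    intro h
    rw [h] at ie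
    have : R * (R - 1) = 0 := by
      rcases mul_eq_zero.mp (ie.trans (by ring : (3 : ℤ) * 0 ^ 2 = 0)) with h | h
      · exact h
      · omega
    rcases mul_eq_zero.mp this with h | h <;> omega
  -- differences to `R`
  set X₁ := u₁ * R - U * q₁ with hX₁
  set Y₁ := w₁ * R - W * q₁ with hY₁
  set X₂ := u₂ * R - U * q₂ with hX₂
  set Y₂ := w₂ * R - W * q₂ with hY₂
  set X₄ := u₄ * R - U * q₄ with hX₄
  set Y₄ := w₄ * R - W * q₄ with hY₄
  have i11 : 8 * (q₁ * R * (q₁ + R) * g) = -(X₁ ^ 2 + 8 * Y₁ ^ 2) :=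
    z_eq _ _ (by simp only [hX₁, hY₁]; push_cast; linear_combination P1)
  have i14 : q₁ * R * (q₁ + R) * g = -((X₁ + 3 * Y₁) ^ 2 + 2 * Y₁ ^ 2) :=
    z_eq _ _ (by simp only [hX₁, hY₁]; push_cast; linear_combination p13)
  have i22 : q₂ * R * (q₂ + R) * g = -((X₂ - 3 * Y₂) ^ 2 + 2 * Y₂ ^ 2) :=
    z_eq _ _ (by simp only [hX₂, hY₂]; push_cast; linear_combination P2)
  have i23 : 2 * (q₂ * R * (q₂ + R) * g) = -(X₂ ^ 2 + 2 * Y₂ ^ 2) :=
    z_eq _ _ (by simp only [hX₂, hY₂]; push_cast; linear_combination p23)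
  have i43 : 2 * (q₄ * R * (q₄ + R) * g) = -(X₄ ^ 2 + 2 * Y₄ ^ 2) :=
    z_eq _ _ (by simp only [hX₄, hY₄]; push_cast; linear_combination p24)
  have i44 : q₄ * R * (q₄ + R) * g = -((X₄ + 3 * Y₄) ^ 2 + 2 * Y₄ ^ 2) :=
    z_eq _ _ (by simp only [hX₄, hY₄]; push_cast; linear_combination p14)
  have hX1 : X₁ = -4 * Y₁ := by
    have : (X₁ + 4 * Y₁) * (7 * X₁ + 20 * Y₁) = 0 := by linear_combination 8 * i14 - i11
    rcases mul_eq_zero.mp this with h | h
    · omega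
    · exfalso
      obtain ⟨z₁, hz₁⟩ := hw₁
      refine no_branch_nine hR hq₁ hG (D := z₁ * R - W₀ * q₁) ?_
      have h7 : 7 * X₁ = -20 * Y₁ := by omega
      have h1 : 49 * (8 * (q₁ * R * (q₁ + R) * g)) = -(792 * Y₁ ^ 2) := by
        rw [i11]; linear_combination (20 * Y₁ - 7 * X₁) * h7
      have hY : Y₁ = 3 * (z₁ * R - W₀ * q₁) := by rw [hY₁, hW, hz₁]; ring
      rw [hY, hg] at h1
      linarith
  have hX2 : X₂ = 2 * Y₂ := by
    have : (X₂ - 2 * Y₂) * (X₂ - 10 * Y₂) = 0 := by linear_combination 2 * i22 - i23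
    rcases mul_eq_zero.mp this with h | h
    · omega
    · exfalso
      refine no_branch_mul hR hq₂ hG (D := z₂ * R - W₀ * q₂) ?_ hΔ₂
      have h10 : X₂ = 10 * Y₂ := by omega
      have hY : Y₂ = 3 * (z₂ * R - W₀ * q₂) := by rw [hY₂, hW, hw₂]; ring
      rw [h10, hY, hg] at i23
      linarith
  have hX4 : X₄ = -2 * Y₄ := by
    have : (X₄ + 2 * Y₄) * (X₄ + 10 * Y₄) = 0 := by linear_combination 2 * i44 - i43
    rcases mul_eq_zero.mp this with h | h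
    · omega
    · exfalso
      refine no_branch_mul hR hq₄ hG (D := z₄ * R - W₀ * q₄) ?_ hΔ₄
      have h10 : X₄ = -10 * Y₄ := by omega
      have hY : Y₄ = 3 * (z₄ * R - W₀ * q₄) := by rw [hY₄, hW, hw₄]; ring
      rw [h10, hY, hg] at i43
      linarith
  -- products with `W`
  have io2 : R * q₂ * g = (U - 3 * W) * (u₂ - 3 * w₂) + 2 * (W * w₂) :=
    z_eq _ _ (by push_cast; linear_combination -o2)
  subst hU
  have k2 : W * Y₂ = R * q₂ * g := by
    have hu : u₂ * R = 4 * W * q₂ + 2 * Y₂ := by linear_combination hX2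
    linear_combination (norm := (rw [hY₂]; ring1)) (-R) * io2 - W * hu + q₂ * ie
  -- the last pair
  have i34 : 2 * (q₂ * q₄ * (q₂ + q₄) * g * R ^ 2) =
      -((q₂ * X₄ - q₄ * X₂) ^ 2 + 2 * (q₂ * Y₄ - q₄ * Y₂) ^ 2) :=
    z_eq _ _ (by simp only [hX₂, hY₂, hX₄, hY₄]; push_cast; linear_combination (R : ℚ) ^ 2 * p34)
  rw [hX2, hX4] at i34
  rw [hX2] at i23; rw [hX4] at i43
  have hprod : Y₂ * Y₄ = R * q₂ * q₄ * g := by
    have h : q₂ * q₄ * (Y₂ * Y₄) = q₂ * q₄ * (R * q₂ * q₄ * g) := by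
      refine mul_left_cancel₀ (show (4 : ℤ) ≠ 0 by norm_num) ?_
      linear_combination i34 - q₄ ^ 2 * i23 - q₂ ^ 2 * i43
    exact mul_left_cancel₀ (mul_ne_zero hq2n hq4n) h
  have h4 : Y₄ = W * q₄ := by
    have h : R * q₂ * g * Y₄ = R * q₂ * g * (W * q₄) := by
      rw [← k2]; linear_combination W * hprod - W * q₄ * k2
    exact mul_left_cancel₀ (mul_ne_zero (mul_ne_zero hRn hq2n) hg0.ne') h
  rw [h4] at i43
  have h : 2 * g * q₄ * R * (R * (q₄ + 1)) = 0 := by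
    linear_combination i43 + 2 * q₄ ^ 2 * ie
  have hne : 2 * g * q₄ * R * R ≠ 0 :=
    mul_ne_zero (mul_ne_zero (mul_ne_zero (mul_ne_zero two_ne_zero hg0.ne') hq4n) hRn) hRn
  rcases mul_eq_zero.mp (show 2 * g * q₄ * R * R * (q₄ + 1) = 0 by linear_combination h) with h | h
  · exact absurd h hne
  · omega

end CfsgLib.SmallGroups.DihedralThree
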