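import Mathlib

/-!
The coefficient vectors of the characters not vanishing on the exceptional classes.
-/

set_option autoImplicit false

namespace CfsgLib.SmallGroups.DihedralThree

/-- Entries of a new row on the old columns, with at most `b` for the sum of squares. -/
def entries : List (List ℤ) → ℕ → List (List ℤ)
  | [], _ => [[]]
  | _ :: L, b => [0, 1, -1, 2, -2].flatMap fun a : ℤ =>
      if a.natAbs * a.natAbs ≤ b then (entries L (b - a.natAbs * a.natAbs)).map (a :: ·) else []

/-- Product of the new entries with row `j`. -/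
def rowDot (L : List (List ℤ)) (e : List ℤ) (j : ℕ) : ℤ :=
  ((L.zip e).map fun p => p.1.getD j 0 * p.2).sum

/-- New columns. -/
def newCols (b : ℕ) : List (List ℤ) :=
  if b = 4 then [List.replicate 4 1, [2]] else [List.replicate b 1]

/-- The required products of the rows. -/
def gram : List (List ℤ) := [[3, 1, 1, 2], [1, 3, 2, 1], [1, 2, 4, 2], [2, 1, 2, 4]]

def gramAt (i j : ℕ) : ℤ := (gram.getD i []).getD j 0

/-- All extensions by row `i`. -/
def step (i : ℕ) (L : List (List ℤ)) : List (List (List ℤ)) :=
  let b := (gramAt i i).natAbs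
  ((entries L b).filter fun e => decide (∀ j < i, rowDot L e j = gramAt i j)).flatMap fun e =>
    (newCols (b - (e.map fun a => a.natAbs * a.natAbs).sum)).map fun n =>
      ((L.zip e).map fun p => p.1 ++ [p.2]) ++ n.map fun a => List.replicate i 0 ++ [a]

/-- All configurations after `i` rows. -/
def reach : ℕ → List (List (List ℤ))
  | 0 => [[]]
  | i + 1 => (reach i).flatMap (step i)

/-- Degree divisible by `3` but a value prime to `3`. -/
def poleW (c : List ℤ) : Bool :=
  decide (c.getD 0 0 % 3 ≠ 0 ∧ c.sum % 3 = 0 ∧ (c.getD 3 0 - c.getD 1 0) % 3 ≠ 0)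

def poleU (c : List ℤ) : Bool :=
  decide (c.getD 1 0 % 3 ≠ 0 ∧ c.sum % 3 = 0 ∧ (c.getD 2 0 - c.getD 0 0) % 3 ≠ 0)

/-- The configuration of `S₆`. -/
def solution : List (List ℤ) :=
  [[0, 0, 0, 1], [0, 0, 1, 0], [0, 0, 1, 1], [0, 1, 0, 0], [0, 1, 1, 0], [1, 0, 0, 0], [1, 0, 0, 1],
    [1, 1, 1, 1]]

def final (L : List (List ℤ)) : Bool :=
  (L.filter poleW).length == 1 || (L.filter poleU).length == 1 || L.isPerm solution

theorem reach_final : ((reach 4).all final) = true := by decide +kernel

variable {ι : Type*}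

/-- The first `i` entries of a column. -/
def pre (c : ι → ℕ → ℤ) (i : ℕ) (χ : ι) : List ℤ := (List.range i).map (c χ)

theorem entries_mem : ∀ (L : List (List ℤ)) (e : List ℤ) (b : ℕ), b ≤ 4 → e.length = L.length →
    (e.map fun a => a.natAbs * a.natAbs).sum ≤ b → e ∈ entries L b
  | [], [], _, _, _, _ => by simp [entries]
  | [], _ :: _, _, _, h, _ => by simp at h
  | _ :: _, [], _, _, h, _ => by simp at h
  | _ :: L, a :: e, b, hb, h, hs => by
    simp only [List.map_cons, List.sum_cons] at hs
    have ha : a.natAbs ≤ 2 := by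
      by_contra hh
      have := Nat.mul_le_mul (show 3 ≤ a.natAbs by omega) (show 3 ≤ a.natAbs by omega)
      omega
    simp only [entries, List.mem_flatMap]
    refine ⟨a, ?_, ?_⟩
    · simp only [List.mem_cons, List.not_mem_nil, or_false]; omega
    · rw [if_pos (by omega)]
      exact List.mem_map.mpr ⟨e, entries_mem L e _ (by omega) (by simpa using h) (by omega), rfl⟩

theorem newCols_mem (n : List ℤ) (b : ℕ) (hb : b ≤ 4) (hpos : ∀ a ∈ n, 0 < a)
    (hs : (n.map fun a => a.natAbs * a.natAbs).sum = b) : n ∈ newCols b := by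
  have hle : ∀ a ∈ n, a.natAbs * a.natAbs ≤ b := fun a ha =>
    hs ▸ List.le_sum_of_mem (List.mem_map_of_mem ha)
  by_cases h2 : (2 : ℤ) ∈ n
  · have hb4 : b = 4 := by have := hle 2 h2; simp at this; omega
    obtain ⟨l₁, l₂, rfl⟩ := List.append_of_mem h2
    have e1 : l₁ = [] := by
      rcases l₁ with _ | ⟨a, l⟩
      · rfl
      · have ha := hpos a (by simp)
        have h1 : 1 ≤ a.natAbs * a.natAbs := Nat.mul_pos (by omega) (by omega)
        simp at hs; omega
    have e2 : l₂ = [] := by
      rcases l₂ with _ | ⟨a, l⟩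
      · rfl
      · have ha := hpos a (by simp)
        have h1 : 1 ≤ a.natAbs * a.natAbs := Nat.mul_pos (by omega) (by omega)
        simp at hs; omega
    subst e1 e2
    simp [newCols, hb4]
  · have h1 : ∀ a ∈ n, a = 1 := by
      intro a ha
      have hp := hpos a ha
      have := hle a ha
      have ha2 : a.natAbs ≤ 2 := by
        by_contra hh
        have := Nat.mul_le_mul (show 3 ≤ a.natAbs by omega) (show 3 ≤ a.natAbs by omega)
        omega
      have : a ≠ 2 := fun e => h2 (e ▸ ha)
      omega
    have hn : n = List.replicate n.length 1 := List.eq_replicate_of_mem h1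
    rw [hn] at hs
    simp at hs
    rw [hn, hs, newCols]
    split_ifs with h <;> simp [h]

/-- Columns normalised to have a positive first non-zero entry realise one of the configurations. -/
theorem exists_config [Fintype ι] (c : ι → ℕ → ℤ)
    (hnorm : ∀ χ i, i < 4 → (∀ j < i, c χ j = 0) → 0 ≤ c χ i)
    (hgram : ∀ i < 4, ∀ j < 4, ∑ χ, c χ i * c χ j = gramAt i j) :
    ∃ l : List ι, l.Nodup ∧ (∀ χ, χ ∉ l → ∀ j < 4, c χ j = 0) ∧ final (l.map (pre c 4)) = true := by
  classical
  have hsum : ∀ (l : List ι), l.Nodup → ∀ f : ι → ℤ, (∀ χ, χ ∉ l → f χ = 0) →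
      (l.map f).sum = ∑ χ, f χ := fun l hl f hf => by
    rw [← List.sum_toFinset f hl]
    exact Finset.sum_subset (Finset.subset_univ _) fun χ _ h => hf χ (by simpa using h)
  suffices key : ∀ i, i ≤ 4 → ∃ l : List ι, l.Nodup ∧ (∀ χ, χ ∉ l → ∀ j < i, c χ j = 0) ∧
      l.map (pre c i) ∈ reach i by
    obtain ⟨l, hl, hz, hm⟩ := key 4 le_rfl
    exact ⟨l, hl, hz, List.all_eq_true.mp reach_final _ hm⟩
  intro i
  induction i with
  | zero => exact fun _ => ⟨[], List.nodup_nil, fun _ _ j hj => absurd hj (by omega), by simp [reach]⟩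
  | succ i ih =>
    intro hi
    obtain ⟨l, hl, hz, hm⟩ := ih (by omega)
    set new := (Finset.univ.filter fun χ => χ ∉ l ∧ c χ i ≠ 0).toList with hnew
    have hnewmem : ∀ χ, χ ∈ new ↔ χ ∉ l ∧ c χ i ≠ 0 := fun χ => by simp [hnew]
    have hnd : (l ++ new).Nodup := List.nodup_append'.mpr ⟨hl, Finset.nodup_toList _,
      fun χ h1 h2 => ((hnewmem χ).mp h2).1 h1⟩
    have hz' : ∀ χ, χ ∉ l ++ new → ∀ j < i + 1, c χ j = 0 := by
      intro χ hχ j hj
      rw [List.mem_append, not_or] at hχ
      rcases Nat.lt_succ_iff_lt_or_eq.mp hj with h | rfl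
      · exact hz χ hχ.1 j h
      · by_contra hne
        exact hχ.2 ((hnewmem χ).mpr ⟨hχ.1, hne⟩)
    refine ⟨l ++ new, hnd, hz', ?_⟩
    rw [reach, List.mem_flatMap]
    refine ⟨_, hm, ?_⟩
    have hg4 : (gramAt i i).natAbs ≤ 4 := by
      have : i = 0 ∨ i = 1 ∨ i = 2 ∨ i = 3 := by omega
      rcases this with rfl | rfl | rfl | rfl <;> decide
    have hsq : ((l.map fun χ => (c χ i).natAbs * (c χ i).natAbs).sum +
        (new.map fun χ => (c χ i).natAbs * (c χ i).natAbs).sum) = (gramAt i i).natAbs := by
      have h := hsum (l ++ new) hnd (fun χ => c χ i * c χ i)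
        (fun χ hχ => by rw [hz' χ hχ i (by omega)]; rfl)
      rw [hgram i (by omega) i (by omega)] at h
      rw [← h, ← List.sum_append, ← List.map_append]
      generalize l ++ new = m
      induction m with
      | nil => simp
      | cons a m ihm =>
        have hh : (0 : ℤ) ≤ (m.map fun χ => c χ i * c χ i).sum := List.sum_nonneg fun x hx => by
          obtain ⟨y, -, rfl⟩ := List.mem_map.mp hx
          exact mul_self_nonneg _
        simp only [List.map_cons, List.sum_cons]
        rw [Int.natAbs_add_of_nonneg (mul_self_nonneg _) hh, Int.natAbs_mul, ihm]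
    simp only [step, List.mem_flatMap]
    refine ⟨l.map (c · i), List.mem_filter.mpr ⟨?_, ?_⟩, ?_⟩
    · refine entries_mem _ _ _ hg4 (by simp) ?_
      rw [List.map_map]
      exact le_of_le_of_eq (Nat.le_add_right _ _) hsq
    · refine decide_eq_true fun j hj => ?_
      have h := hsum l hl (fun χ => c χ j * c χ i) (fun χ hχ => by rw [hz χ hχ j hj, zero_mul])
      rw [show ∑ χ, c χ j * c χ i = ∑ χ, c χ i * c χ j from
        Finset.sum_congr rfl fun χ _ => mul_comm _ _, hgram i (by omega) j (by omega)] at h
      rw [← h, rowDot, List.zip_map, List.map_map, List.zip_eq_zipWith, List.zipWith_self, List.map_map]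
      congr 1
      refine List.map_congr_left fun χ _ => ?_
      simp [pre, List.getD_eq_getElem?_getD, hj]
    · refine List.mem_map.mpr ⟨new.map (c · i), newCols_mem _ _ (by omega) ?_ ?_, ?_⟩
      · intro a ha
        obtain ⟨χ, hχ, rfl⟩ := List.mem_map.mp ha
        obtain ⟨h1, h2⟩ := (hnewmem χ).mp hχ
        have := hnorm χ i (by omega) (hz χ h1)
        omega
      · rw [List.map_map, List.map_map]
        simp only [Function.comp_def] at hsq ⊢
        omega
      · rw [List.map_append, List.map_map, List.zip_map, List.map_map, List.zip_eq_zipWith,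
          List.zipWith_self, List.map_map]
        congr 1
        · refine List.map_congr_left fun χ _ => ?_
          simp [pre, List.range_succ]
        · refine List.map_congr_left fun χ hχ => ?_
          obtain ⟨h1, -⟩ := (hnewmem χ).mp hχ
          simp only [Function.comp_apply, pre, List.range_succ, List.map_append, List.map_singleton]
          congr 1
          refine (List.eq_replicate_iff.mpr ⟨by simp, ?_⟩).symm
          intro a ha
          obtain ⟨j, hj, rfl⟩ := List.mem_map.mp ha
          exact hz χ h1 j (List.mem_range.mp hj)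

end CfsgLib.SmallGroups.DihedralThree
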