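import Cfsg.Agent.Lib.SmallGroups.DihedralThree.Local
import Cfsg.Agent.Lib.SmallGroups.DihedralThree.Search
import Cfsg.Agent.Lib.SmallGroups.DihedralThree.Algebra
import Mathlib

/-!
A group with local subgroup `3² ⋊ D₈` has a non-trivial linear character.
-/

set_option autoImplicit false

namespace CfsgLib.SmallGroups.DihedralThree

open Cfsg CfsgLib.Char CfsgLib.InvolChar

variable {G : Type*} [Group G] [Fintype G] {Φ : Local72 →* G}

/-- The coefficients of `χ`. -/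
noncomputable def coef (h : Loc Φ) (χ : IrrCharacter G) : Fin 4 → ℤ := (h.values χ).choose

theorem coef_spec (h : Loc Φ) (χ : IrrCharacter G) :
    val Φ χ 0 = ((coef h χ 0 + coef h χ 2 - 2 * (coef h χ 1 + coef h χ 3) : ℤ) : ℂ) ∧
      val Φ χ 1 = ((-2 * (coef h χ 0 + coef h χ 2) + (coef h χ 1 + coef h χ 3) : ℤ) : ℂ) ∧
      val Φ χ 2 = ((coef h χ 2 - coef h χ 0 : ℤ) : ℂ) ∧ val Φ χ 3 = ((coef h χ 3 - coef h χ 1 : ℤ) : ℂ) ∧
      (9 : ℤ) ∣ (deg χ : ℤ) - 4 * (coef h χ 0 + coef h χ 1 + coef h χ 2 + coef h χ 3) := by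
  obtain ⟨x, y, h0, h1, h2, h3, -, -, -, -, h9⟩ := (h.values χ).choose_spec
  exact ⟨h0, h1, h2, h3, h9⟩

/-- The coefficients in terms of the values. -/
def weight : Fin 4 → Fin 4 → ℚ :=
  ![![-1/6, -1/3, -1/2, 0], ![-1/3, -1/6, 0, -1/2], ![-1/6, -1/3, 1/2, 0], ![-1/3, -1/6, 0, 1/2]]

theorem coef_eq (h : Loc Φ) (χ : IrrCharacter G) (i : Fin 4) :
    (coef h χ i : ℂ) = ∑ k, (weight i k : ℂ) * val Φ χ k := by
  obtain ⟨h0, h1, h2, h3, -⟩ := coef_spec h χ
  fin_cases i <;> simp [Fin.sum_univ_four, weight, h0, h1, h2, h3] <;> ring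

/-- The integral value at an involution. -/
noncomputable def ival (χ : IrrCharacter G) (x : G) : ℤ := by
  classical exact if hx : x * x = 1 then intVal χ hx else 0

theorem ival_spec (χ : IrrCharacter G) {x : G} (hx : x * x = 1) : (χ : G → ℂ) x = (ival χ x : ℂ) := by
  rw [ival, dif_pos hx]; exact intVal_spec χ hx

theorem ival_conj (χ : IrrCharacter G) {x y : G} (hx : x * x = 1) (hy : y * y = 1) (hc : IsConj x y) :
    ival χ x = ival χ y := by
  have h := value_conj χ hc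
  rw [ival_spec χ hx, ival_spec χ hy] at h
  exact_mod_cast h

theorem map_invRep_sq (k : Fin 3) : Φ (invRep k) * Φ (invRep k) = 1 := by
  rw [← map_mul, (invRep_spec k).1, map_one]

theorem ival_congr (h : Loc Φ) (χ : IrrCharacter G) :
    (3 : ℤ) ∣ ival χ (Φ (invRep 0)) - (coef h χ 2 - coef h χ 0) ∧
      (3 : ℤ) ∣ ival χ (Φ (invRep 1)) - (coef h χ 3 - coef h χ 1) := by
  obtain ⟨x, y, -, -, -, -, hx, hy, hxA, hyB, -⟩ := (h.values χ).choose_spec
  have e0 : ival χ (Φ (invRep 0)) = x := by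
    have := ival_spec χ (map_invRep_sq (Φ := Φ) 0)
    rw [show invRep 0 = sA from rfl] at this ⊢
    exact_mod_cast this.symm.trans hx
  have e1 : ival χ (Φ (invRep 1)) = y := by
    have := ival_spec χ (map_invRep_sq (Φ := Φ) 1)
    rw [show invRep 1 = sB from rfl] at this ⊢
    exact_mod_cast this.symm.trans hy
  rw [e0, e1]; exact ⟨hxA, hyB⟩

theorem coef_irrOne (h : Loc Φ) (i : Fin 4) : coef h (irrOne : IrrCharacter G) i = ![-1, -1, 0, 0] i := by
  have e := coef_eq h (irrOne : IrrCharacter G) i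
  simp only [val, irrOne_apply, mul_one] at e
  fin_cases i <;> simp [Fin.sum_univ_four, weight] at e ⊢ <;> norm_num at e <;> exact_mod_cast e

/-- The non-trivial irreducible characters. -/
abbrev NonTriv (G : Type*) [Group G] [Fintype G] := {χ : IrrCharacter G // χ ≠ (irrOne : IrrCharacter G)}

theorem sum_split {M : Type*} [AddCommMonoid M] [Fintype (NonTriv G)] (F : IrrCharacter G → M) :
    ∑ χ, F χ = F (irrOne : IrrCharacter G) + ∑ χ : NonTriv G, F χ.1 := by
  classical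
  rw [← Finset.add_sum_erase _ _ (Finset.mem_univ (irrOne : IrrCharacter G))]
  congr 1
  exact Finset.sum_subtype _ (fun χ => by simp) F

theorem gram_eq (h : Loc Φ) [Fintype (NonTriv G)] (i j : Fin 4) :
    ∑ χ : NonTriv G, coef h χ.1 i * coef h χ.1 j = gramAt i j := by
  have e : ((∑ χ : IrrCharacter G, coef h χ i * coef h χ j : ℤ) : ℂ) =
      ∑ k, ((weight i k * weight j k * (![18, 18, 6, 6] k : ℕ) : ℚ) : ℂ) := by
    push_cast
    simp only [coef_eq, Finset.sum_mul, Finset.mul_sum]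
    rw [Finset.sum_comm]
    refine Finset.sum_congr rfl fun k _ => ?_
    rw [Finset.sum_comm, Finset.sum_eq_single k]
    · rw [Finset.sum_congr rfl fun χ _ => show (weight i k : ℂ) * val Φ χ k * ((weight j k : ℂ) * val Φ χ k) =
        (weight i k : ℂ) * weight j k * (val Φ χ k * val Φ χ k) by ring, ← Finset.mul_sum, h.orth, if_pos rfl]
    · intro l _ hl
      rw [Finset.sum_congr rfl fun χ _ => show (weight i l : ℂ) * val Φ χ l * ((weight j k : ℂ) * val Φ χ k) =
        (weight i l : ℂ) * weight j k * (val Φ χ l * val Φ χ k) by ring, ← Finset.mul_sum, h.orth,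
        if_neg hl, mul_zero]
    · simp
  have e' : (((∑ χ : IrrCharacter G, coef h χ i * coef h χ j : ℤ) : ℚ) : ℂ) =
      ((∑ k, (weight i k * weight j k * (![18, 18, 6, 6] k : ℕ) : ℚ) : ℚ) : ℂ) := by
    push_cast at e ⊢; exact e
  have e'' := Rat.cast_injective e'
  rw [sum_split (fun χ => coef h χ i * coef h χ j), coef_irrOne, coef_irrOne] at e''
  fin_cases i <;> fin_cases j <;>
    (simp [Fin.sum_univ_four, weight, gramAt, gram] at e'' ⊢; norm_num at e'';
     first | exact_mod_cast e'' | (rw [← @Int.cast_inj ℚ]; push_cast; linarith))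

theorem sum_coef_mul (h : Loc Φ) {x : G} (hx : x * x = 1) (i : Fin 4) :
    ∑ χ : IrrCharacter G, (coef h χ i : ℂ) * (χ : G → ℂ) x = 0 := by
  simp only [coef_eq, Finset.sum_mul]
  rw [Finset.sum_comm]
  refine Finset.sum_eq_zero fun k _ => ?_
  rw [Finset.sum_congr rfl fun χ _ => show (weight i k : ℂ) * val Φ χ k * (χ : G → ℂ) x =
    (weight i k : ℂ) * ((χ : G → ℂ) x * val Φ χ k) by ring, ← Finset.mul_sum, h.orth_other hx, mul_zero]

theorem sum_coef_deg (h : Loc Φ) [Fintype (NonTriv G)] (i : Fin 4) :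
    ∑ χ : NonTriv G, coef h χ.1 i * (deg χ.1 : ℤ) = ![1, 1, 0, 0] i := by
  have e := sum_coef_mul h (one_mul (1 : G)) i
  simp only [deg_spec] at e
  have e' : ∑ χ : IrrCharacter G, coef h χ i * (deg χ : ℤ) = 0 := by exact_mod_cast e
  rw [sum_split (fun χ => coef h χ i * (deg χ : ℤ)), coef_irrOne, deg_irrOne] at e'
  fin_cases i <;> simp at e' ⊢ <;> omega

/-- The shifted involution sums. -/
noncomputable def shifted (Φ : Local72 →* G) (p : Fin 3 → Bool) (χ : IrrCharacter G) : ℤ :=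
  ∑ x ∈ invSet Φ p, (ival χ x - deg χ)

theorem shifted_cast (p : Fin 3 → Bool) (χ : IrrCharacter G) :
    (shifted Φ p χ : ℂ) = total (invSet Φ p) χ - (invSet Φ p).card * (χ : G → ℂ) 1 := by
  rw [shifted, total, deg_spec]
  push_cast
  rw [Finset.sum_sub_distrib, Finset.sum_const, nsmul_eq_mul,
    Finset.sum_congr rfl fun x hx => (ival_spec χ (invSet_sq hx)).symm]

theorem shifted_irrOne (p : Fin 3 → Bool) : shifted Φ p (irrOne : IrrCharacter G) = 0 := by
  refine Finset.sum_eq_zero fun x hx => ?_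
  rw [ival, dif_pos (invSet_sq hx), intVal_irrOne, deg_irrOne]; simp

theorem sum_coef_shifted (h : Loc Φ) [Fintype (NonTriv G)] (p : Fin 3 → Bool) (i : Fin 4) :
    ∑ χ : NonTriv G, coef h χ.1 i * shifted Φ p χ.1 = 0 := by
  have e : ∑ χ : IrrCharacter G, (coef h χ i : ℂ) * (shifted Φ p χ : ℂ) = 0 := by
    simp only [shifted_cast, mul_sub, Finset.sum_sub_distrib, total, Finset.mul_sum]
    rw [Finset.sum_comm, Finset.sum_eq_zero fun x hx => sum_coef_mul h (invSet_sq hx) i,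
      Finset.sum_congr rfl fun χ _ => show (coef h χ i : ℂ) * ((invSet Φ p).card * (χ : G → ℂ) 1) =
        ((invSet Φ p).card : ℂ) * ((coef h χ i : ℂ) * (χ : G → ℂ) 1) by ring, ← Finset.mul_sum,
      sum_coef_mul h (one_mul (1 : G)) i]
    simp
  have e' : ∑ χ : IrrCharacter G, coef h χ i * shifted Φ p χ = 0 := by exact_mod_cast e
  rwa [sum_split (fun χ => coef h χ i * shifted Φ p χ), shifted_irrOne, mul_zero, zero_add] at e'

theorem structure_eq (h : Loc Φ) [Fintype (NonTriv G)] {p q : Fin 3 → Bool} (hp : Closed Φ p)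
    (hq : Closed Φ q) (i : Fin 4) :
    ∑ χ : NonTriv G, (coef h χ.1 i : ℚ) * shifted Φ p χ.1 * shifted Φ q χ.1 / (deg χ.1 : ℤ) =
      (Nat.card G : ℚ) * ∑ k, weight i k * pairCount p q k := by
  refine Rat.cast_injective (α := ℂ) ?_
  push_cast
  have e : ∑ χ : IrrCharacter G, (coef h χ i : ℂ) * shifted Φ p χ * shifted Φ q χ / (deg χ : ℂ) =
      ∑ k, (weight i k : ℂ) * ((Nat.card G : ℂ) * pairCount p q k) := by
    simp only [← h.pairs hp hq, shifted_cast, coef_eq, ← deg_spec, Finset.mul_sum, Finset.sum_mul, Finset.sum_div]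
    rw [Finset.sum_comm]
    exact Finset.sum_congr rfl fun k _ => Finset.sum_congr rfl fun χ _ => by ring
  rw [sum_split (fun χ => (coef h χ i : ℂ) * shifted Φ p χ * shifted Φ q χ / (deg χ : ℂ)), shifted_irrOne] at e
  simp only [Int.cast_zero, mul_zero, zero_mul, zero_div, zero_add] at e
  rw [e, Finset.mul_sum]
  exact Finset.sum_congr rfl fun k _ => by ring

/-- The two kinds of reflections are not conjugate. -/
theorem Loc.reflections_not_conj (h : Loc Φ) : ¬ IsConj (Φ (invRep 0)) (Φ (invRep 1)) := by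
  intro hc
  have h3 : ∀ χ : IrrCharacter G, (3 : ℤ) ∣ (coef h χ 2 - coef h χ 0) - (coef h χ 3 - coef h χ 1) := by
    intro χ
    obtain ⟨h0, h1⟩ := ival_congr h χ
    rw [ival_conj χ (map_invRep_sq 0) (map_invRep_sq 1) hc] at h0
    simpa using dvd_sub h1 h0
  have e : ∑ χ : IrrCharacter G, (((coef h χ 2 - coef h χ 0) - (coef h χ 3 - coef h χ 1)) ^ 2 : ℤ) = 12 := by
    suffices hh : ((∑ χ : IrrCharacter G, (((coef h χ 2 - coef h χ 0) - (coef h χ 3 - coef h χ 1)) ^ 2 : ℤ) : ℤ) : ℂ) =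
        ((12 : ℤ) : ℂ) by exact_mod_cast hh
    have hv : ∀ χ : IrrCharacter G, ((((coef h χ 2 - coef h χ 0) - (coef h χ 3 - coef h χ 1)) ^ 2 : ℤ) : ℂ) =
        val Φ χ 2 * val Φ χ 2 - 2 * (val Φ χ 2 * val Φ χ 3) + val Φ χ 3 * val Φ χ 3 := fun χ => by
      obtain ⟨-, -, h2, h3, -⟩ := coef_spec h χ
      rw [h2, h3]; push_cast; ring
    rw [Int.cast_sum, Finset.sum_congr rfl fun χ _ => hv χ, Finset.sum_add_distrib, Finset.sum_sub_distrib,
      ← Finset.mul_sum, h.orth, h.orth, h.orth]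
    simp (discharger := decide) [if_neg]
    norm_num
  have h9 : (9 : ℤ) ∣ ∑ χ : IrrCharacter G, (((coef h χ 2 - coef h χ 0) - (coef h χ 3 - coef h χ 1)) ^ 2 : ℤ) :=
    Finset.dvd_sum fun χ _ => by
      obtain ⟨m, hm⟩ := h3 χ
      exact ⟨m ^ 2, by rw [hm]; ring⟩
  rw [e] at h9
  norm_num at h9

/-- The class of the second reflection. -/
noncomputable def classB (Φ : Local72 →* G) : Fin 3 → Bool := fun k => by
  classical exact decide (IsConj (Φ (invRep 1)) (Φ (invRep k)))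

theorem closed_classB : Closed Φ (classB Φ) := by
  intro k l hkl hk
  simp only [classB, decide_eq_true_eq] at hk ⊢
  exact hk.trans hkl

theorem classB_eq (h : Loc Φ) :
    classB Φ = ![false, true, false] ∨ classB Φ = ![false, true, true] := by
  classical
  have h0 : classB Φ 0 = false := decide_eq_false fun hc => h.reflections_not_conj hc.symm
  have h1 : classB Φ 1 = true := decide_eq_true (IsConj.refl _)
  by_cases h2 : classB Φ 2 = true
  · right; funext k; fin_cases k <;> simp [h0, h1, h2]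
  · left; funext k; fin_cases k <;> simp [h0, h1, h2]

theorem invSet_classB (x : G) : x ∈ invSet Φ (classB Φ) ↔ IsConj (Φ (invRep 1)) x := by
  rw [mem_invSet]
  exact ⟨fun ⟨k, hk, hc⟩ => (by simpa [classB] using hk : IsConj (Φ (invRep 1)) (Φ (invRep k))).trans hc,
    fun hc => ⟨1, by simp only [classB, decide_eq_true_eq]; exact IsConj.refl _, hc⟩⟩

/-- The sum over the class of the second reflection is three times a unit. -/
theorem Loc.shifted_classB (h : Loc Φ) : ∃ t : ℤ, ¬ (3 : ℤ) ∣ t ∧ ∀ χ : IrrCharacter G,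
    ∃ z, shifted Φ (classB Φ) χ = 3 * z ∧ (3 : ℤ) ∣ z - t * ((coef h χ 3 - coef h χ 1) - deg χ) := by
  classical
  obtain ⟨G₀, hG, hG3⟩ := h.sylow
  set C := Subgroup.centralizer ({Φ (invRep 1)} : Set G)
  have hTC : (invSet Φ (classB Φ)).card * Nat.card C = Nat.card G := by
    rw [← card_isConj_mul_card_centralizer (Φ (invRep 1))]
    congr 1
    rw [Nat.card_eq_fintype_card, Fintype.card_subtype]
    exact congrArg Finset.card (Finset.ext fun x => by simp [invSet_classB])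
  have h3C : 3 ∣ Nat.card C := by
    have hc : Φ eB ∈ C := Subgroup.mem_centralizer_singleton_iff.mpr (by
      rw [← map_mul, ← map_mul]; exact congrArg Φ (by decide +kernel : eB * invRep 1 = invRep 1 * eB))
    have ho : orderOf (⟨Φ eB, hc⟩ : C) = 3 := by
      haveI : Fact (Nat.Prime 3) := ⟨Nat.prime_three⟩
      rw [← orderOf_injective C.subtype Subtype.val_injective]
      refine orderOf_eq_prime ?_ ?_
      · show Φ eB ^ 3 = 1
        rw [← map_pow, show eB ^ 3 = 1 by decide +kernel, map_one]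
      · exact fun e => absurd (h.inj (e.trans (map_one Φ).symm)) (by decide +kernel)
    exact ho ▸ orderOf_dvd_natCard _
  have h9 : ¬ 9 ∣ Nat.card C := h.inv9 _ (invRep_spec 1).1 (invRep_spec 1).2.1
  obtain ⟨c', hc'⟩ := h3C
  set n := (invSet Φ (classB Φ)).card
  rw [hc', hG] at hTC
  have hn3 : 3 ∣ n := (Nat.Prime.dvd_mul Nat.prime_three).mp (show 3 ∣ n * c' from ⟨G₀, by linarith⟩) |>.resolve_right
    fun hd => h9 (by rw [hc']; exact Nat.mul_dvd_mul_left 3 hd)
  obtain ⟨t, ht⟩ := hn3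
  have htc : t * c' = G₀ := by rw [ht] at hTC; linarith
  refine ⟨t, fun hd => ?_, fun χ => ⟨(t : ℤ) * (ival χ (Φ (invRep 1)) - deg χ), ?_, ?_⟩⟩
  · have : 3 ∣ t := by exact_mod_cast hd
    have : 3 ∣ G₀ := htc ▸ dvd_mul_of_dvd_left this c'
    omega
  · rw [shifted, Finset.sum_congr rfl fun x hx => by
      rw [ival_conj χ (invSet_sq hx) (map_invRep_sq 1) ((invSet_classB x).mp hx).symm], Finset.sum_const,
      nsmul_eq_mul, show ((invSet Φ (classB Φ)).card : ℤ) = 3 * t by rw [show (invSet Φ (classB Φ)).card = n from rfl, ht]; push_cast; ring]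
    ring
  · obtain ⟨-, h1⟩ := ival_congr h χ
    obtain ⟨m, hm⟩ := h1
    exact ⟨t * m, by linear_combination (t : ℤ) * hm⟩

theorem deg_dvd_card (χ : IrrCharacter G) : deg χ ∣ Nat.card G := degree_dvd_card χ.2 (deg_spec χ)

/-- A column with degree divisible by `3` and a unit value at the second reflection. -/
def pole (c : Fin 4 → ℤ) : Prop :=
  c 0 % 3 ≠ 0 ∧ (c 0 + c 1 + c 2 + c 3) % 3 = 0 ∧ (c 3 - c 1) % 3 ≠ 0

theorem Loc.no_unique_pole (h : Loc Φ) [Fintype (NonTriv G)] (χ₀ : NonTriv G) (h0 : pole (coef h χ₀.1)) :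
    ∃ χ : NonTriv G, χ ≠ χ₀ ∧ pole (coef h χ.1) := by
  classical
  by_contra hno
  push Not at hno
  obtain ⟨G₀, hG, hG3⟩ := h.sylow
  obtain ⟨t, ht, hz⟩ := h.shifted_classB
  choose z hz hzc using hz
  obtain ⟨v, hv⟩ : ∃ v : ℤ, ∑ k, weight 0 k * (pairCount (classB Φ) (classB Φ) k : ℚ) = (v : ℚ) / 2 := by
    rcases classB_eq h with e | e <;> rw [e]
    · exact ⟨-2, by simp [Fin.sum_univ_four, weight, pairCount_values.2.1]⟩
    · exact ⟨-11, by simp [Fin.sum_univ_four, weight, pairCount_values.2.2.2.2] <;> norm_num⟩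
  have hdd : ∀ χ : IrrCharacter G, ∃ f : ℤ, 9 * (G₀ : ℤ) = deg χ * f := fun χ => by
    obtain ⟨f, hf⟩ := deg_dvd_card χ
    exact ⟨f, by rw [hG] at hf; exact_mod_cast hf⟩
  choose f hf using hdd
  have e := structure_eq h closed_classB closed_classB (i := 0)
  rw [hv, hG] at e
  have eI : ∑ χ : NonTriv G, 18 * coef h χ.1 0 * (z χ.1) ^ 2 * f χ.1 = 81 * (G₀ : ℤ) ^ 2 * v := by
    suffices hh : ((∑ χ : NonTriv G, 18 * coef h χ.1 0 * (z χ.1) ^ 2 * f χ.1 : ℤ) : ℚ) = ((81 * (G₀ : ℤ) ^ 2 * v : ℤ) : ℚ) by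
      exact_mod_cast hh
    push_cast at e ⊢
    have he : ∀ χ : NonTriv G, (18 : ℚ) * coef h χ.1 0 * (z χ.1 : ℚ) ^ 2 * f χ.1 =
        2 * (9 * G₀) * ((coef h χ.1 0 : ℚ) * shifted Φ (classB Φ) χ.1 * shifted Φ (classB Φ) χ.1 / (deg χ.1 : ℚ)) := by
      intro χ
      have hd : (deg χ.1 : ℚ) ≠ 0 := by exact_mod_cast (deg_pos χ.1).ne'
      have hfq : 9 * (G₀ : ℚ) = deg χ.1 * f χ.1 := by exact_mod_cast hf χ.1
      rw [hz, hfq]; push_cast; field_simp; ring
    rw [Finset.sum_congr rfl fun χ _ => he χ, ← Finset.mul_sum, e]; ring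
  have hterm : ∀ χ : NonTriv G, χ ≠ χ₀ → (81 : ℤ) ∣ 18 * coef h χ.1 0 * (z χ.1) ^ 2 * f χ.1 := by
    intro χ hχ
    have hnp := hno χ hχ
    suffices hh : (9 : ℤ) ∣ coef h χ.1 0 * (z χ.1) ^ 2 * f χ.1 by
      obtain ⟨m, hm⟩ := hh; exact ⟨2 * m, by linear_combination 18 * hm⟩
    by_cases h3 : (3 : ℤ) ∣ (deg χ.1 : ℤ)
    · obtain ⟨-, -, -, -, h9⟩ := coef_spec h χ.1
      have hS : (coef h χ.1 0 + coef h χ.1 1 + coef h χ.1 2 + coef h χ.1 3) % 3 = 0 := by omega
      by_cases hc : coef h χ.1 0 % 3 = 0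
      · have hb : coef h χ.1 0 * coef h χ.1 0 ≤ 3 := by
          have := gram_eq h 0 0
          rw [show gramAt ((0 : Fin 4) : ℕ) ((0 : Fin 4) : ℕ) = 3 from rfl] at this
          rw [← this]
          exact Finset.single_le_sum (f := fun χ : NonTriv G => coef h χ.1 0 * coef h χ.1 0)
            (fun _ _ => mul_self_nonneg _) (Finset.mem_univ χ)
        have : coef h χ.1 0 = 0 := by
          rcases eq_or_ne (coef h χ.1 0) 0 with h' | h'
          · exact h'
          · have hlt : -2 < coef h χ.1 0 ∧ coef h χ.1 0 < 2 := by constructor <;> nlinarith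
            omega
        rw [this]; simp
      · have hy : (coef h χ.1 3 - coef h χ.1 1) % 3 = 0 := by
          by_contra hh; exact hnp ⟨hc, hS, hh⟩
        have hz3 : (3 : ℤ) ∣ z χ.1 := by
          have hd : (3 : ℤ) ∣ t * ((coef h χ.1 3 - coef h χ.1 1) - deg χ.1) := dvd_mul_of_dvd_right (by omega) t
          simpa using dvd_add (hzc χ.1) hd
        obtain ⟨m, hm⟩ := hz3
        exact ⟨coef h χ.1 0 * m ^ 2 * f χ.1, by rw [hm]; ring⟩
    · have h9f : (9 : ℤ) ∣ f χ.1 := by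
        have hco : IsCoprime (9 : ℤ) (deg χ.1 : ℤ) := by
          rw [show (9 : ℤ) = 3 ^ 2 by norm_num]
          exact ((Int.prime_three.coprime_iff_not_dvd).mpr h3).pow_left
        exact hco.dvd_of_dvd_mul_left ⟨(G₀ : ℤ), (hf χ.1).symm⟩
      exact dvd_mul_of_dvd_right h9f _
  have h81 : (81 : ℤ) ∣ 18 * coef h χ₀.1 0 * (z χ₀.1) ^ 2 * f χ₀.1 := by
    have hsum : (81 : ℤ) ∣ ∑ χ : NonTriv G, 18 * coef h χ.1 0 * (z χ.1) ^ 2 * f χ.1 :=
      eI ▸ ⟨(G₀ : ℤ) ^ 2 * v, by ring⟩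
    rw [← Finset.add_sum_erase _ _ (Finset.mem_univ χ₀)] at hsum
    have := Finset.dvd_sum (s := Finset.univ.erase χ₀) (f := fun χ : NonTriv G => 18 * coef h χ.1 0 * (z χ.1) ^ 2 * f χ.1)
      fun χ hχ => hterm χ (Finset.ne_of_mem_erase hχ)
    simpa using dvd_sub hsum this
  obtain ⟨hc0, hS, hy⟩ := h0
  obtain ⟨-, -, -, -, h9⟩ := coef_spec h χ₀.1
  have hd3 : (3 : ℤ) ∣ (deg χ₀.1 : ℤ) := by omega
  have hzu : ¬ (3 : ℤ) ∣ z χ₀.1 := fun hd => by
    have h' : (3 : ℤ) ∣ t * ((coef h χ₀.1 3 - coef h χ₀.1 1) - deg χ₀.1) := by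
      simpa using dvd_sub hd (hzc χ₀.1)
    rcases Int.prime_three.dvd_or_dvd h' with h' | h'
    · exact ht h'
    · omega
  have hf9 : ¬ (9 : ℤ) ∣ f χ₀.1 := fun hd => by
    obtain ⟨a, ha⟩ := hd
    obtain ⟨b, hb⟩ := hd3
    have := hf χ₀.1
    rw [ha, hb] at this
    have : (G₀ : ℤ) = 3 * (b * a) := by linarith
    omega
  have h9' : (3 : ℤ) ^ 2 ∣ (2 * coef h χ₀.1 0 * z χ₀.1 ^ 2) * f χ₀.1 := by
    obtain ⟨m, hm⟩ := h81; exact ⟨m, by linarith⟩
  have hunit : ¬ (3 : ℤ) ∣ 2 * coef h χ₀.1 0 * z χ₀.1 ^ 2 := fun hd => by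
    rcases Int.prime_three.dvd_or_dvd hd with hd | hd
    · omega
    · exact hzu (Int.prime_three.dvd_of_dvd_pow hd)
  exact hf9 (by simpa using Int.prime_three.pow_dvd_of_dvd_mul_left 2 hunit h9')

theorem coef_mirror (h : Loc Φ) (χ : IrrCharacter G) (i : Fin 4) :
    coef h.comp_mirror χ i = coef h χ (![1, 0, 3, 2] i) := by
  have hv : ∀ k, val (Φ.comp mirror.toMonoidHom) χ k = val Φ χ (![1, 0, 3, 2] k) := fun k =>
    (value_conj χ (isConj_map (Φ := Φ) (mirror_rep k))).symm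
  have e := coef_eq h.comp_mirror χ i
  simp only [hv] at e
  have e' := coef_eq h χ (![1, 0, 3, 2] i)
  have : (coef h.comp_mirror χ i : ℂ) = (coef h χ (![1, 0, 3, 2] i) : ℂ) := by
    rw [e, e']; fin_cases i <;> simp [Fin.sum_univ_four, weight] <;> ring
  exact_mod_cast this

/-- The first non-zero coefficient determines the sign. -/
def sgn (c : Fin 4 → ℤ) : ℤ :=
  if 0 < c 0 ∨ (c 0 = 0 ∧ (0 < c 1 ∨ (c 1 = 0 ∧ (0 < c 2 ∨ (c 2 = 0 ∧ 0 ≤ c 3))))) then 1 else -1

theorem sgn_cases (c : Fin 4 → ℤ) : sgn c = 1 ∨ sgn c = -1 := by unfold sgn; split_ifs <;> simp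

/-- The normalised columns. -/
noncomputable def col (h : Loc Φ) (χ : NonTriv G) (i : ℕ) : ℤ :=
  if hi : i < 4 then sgn (coef h χ.1) * coef h χ.1 ⟨i, hi⟩ else 0

theorem col_fin (h : Loc Φ) (χ : NonTriv G) (i : Fin 4) : col h χ i = sgn (coef h χ.1) * coef h χ.1 i :=
  dif_pos i.2

theorem col_norm (h : Loc Φ) (χ : NonTriv G) (i : ℕ) (hi : i < 4) (hz : ∀ j < i, col h χ j = 0) :
    0 ≤ col h χ i := by
  simp only [col] at hz ⊢
  unfold sgn at hz ⊢
  rcases (show i = 0 ∨ i = 1 ∨ i = 2 ∨ i = 3 by omega) with rfl | rfl | rfl | rfl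
  · simp; split_ifs <;> omega
  · have h0 := hz 0 (by norm_num); simp at h0 ⊢; split_ifs at h0 ⊢ <;> omega
  · have h0 := hz 0 (by norm_num); have h1 := hz 1 (by norm_num)
    simp at h0 h1 ⊢; split_ifs at h0 h1 ⊢ <;> omega
  · have h0 := hz 0 (by norm_num); have h1 := hz 1 (by norm_num); have h2 := hz 2 (by norm_num)
    simp at h0 h1 h2 ⊢; split_ifs at h0 h1 h2 ⊢ <;> omega

theorem col_gram (h : Loc Φ) [Fintype (NonTriv G)] (i : ℕ) (hi : i < 4) (j : ℕ) (hj : j < 4) :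
    ∑ χ : NonTriv G, col h χ i * col h χ j = gramAt i j := by
  rw [← gram_eq h ⟨i, hi⟩ ⟨j, hj⟩]
  refine Finset.sum_congr rfl fun χ _ => ?_
  simp only [col, dif_pos hi, dif_pos hj]
  rcases sgn_cases (coef h χ.1) with e | e <;> rw [e] <;> ring

theorem pre_four {ι : Type*} (c : ι → ℕ → ℤ) (χ : ι) : pre c 4 χ = [c χ 0, c χ 1, c χ 2, c χ 3] := rfl

theorem poleW_col (h : Loc Φ) (χ : NonTriv G) : poleW (pre (col h) 4 χ) = true ↔ pole (coef h χ.1) := by
  rw [pre_four, poleW, pole, decide_eq_true_eq]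
  simp [col]
  rcases sgn_cases (coef h χ.1) with e | e <;> rw [e] <;> constructor <;> rintro ⟨a, b, c⟩ <;>
    refine ⟨?_, ?_, ?_⟩ <;> omega

theorem poleU_col (h : Loc Φ) (χ : NonTriv G) :
    poleU (pre (col h) 4 χ) = true ↔ pole (coef h.comp_mirror χ.1) := by
  rw [pre_four, poleU, pole, decide_eq_true_eq, coef_mirror h χ.1 0, coef_mirror h χ.1 1, coef_mirror h χ.1 2,
    coef_mirror h χ.1 3]
  simp [col]
  rcases sgn_cases (coef h χ.1) with e | e <;> rw [e] <;> constructor <;> rintro ⟨a, b, c⟩ <;>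
    refine ⟨?_, ?_, ?_⟩ <;> omega

/-- The eight characters. -/
theorem Loc.exists_eight (h : Loc Φ) [Fintype (NonTriv G)] :
    ∃ f : Fin 8 → NonTriv G, Function.Injective f ∧ (∀ k (i : Fin 4), col h (f k) i =
        (solution.getD k []).getD i 0) ∧ ∀ χ, (∀ k, f k ≠ χ) → ∀ i : Fin 4, coef h χ.1 i = 0 := by
  classical
  obtain ⟨l, hl, hout, hfin⟩ := exists_config (col h) (col_norm h) (col_gram h)
  have kill : ∀ (P : List ℤ → Bool) (Q : NonTriv G → Prop), (∀ χ, P (pre (col h) 4 χ) = true ↔ Q χ) →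
      (∀ χ, Q χ → (coef h χ.1 0 ≠ 0 ∨ coef h χ.1 1 ≠ 0)) →
      (∀ χ₀, Q χ₀ → ∃ χ, χ ≠ χ₀ ∧ Q χ) → ((l.map (pre (col h) 4)).filter P).length ≠ 1 := by
    intro P Q hPQ hsupp hQ he
    obtain ⟨a, ha⟩ := List.length_eq_one_iff.mp he
    rw [List.filter_map] at ha
    obtain ⟨χ₀, hm, -⟩ := List.map_eq_singleton_iff.mp ha
    have hmem : χ₀ ∈ l.filter (P ∘ pre (col h) 4) := by rw [hm]; simp
    obtain ⟨χ, hne, hQχ⟩ := hQ χ₀ ((hPQ χ₀).mp (List.mem_filter.mp hmem).2)
    have hχl : χ ∈ l := by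
      by_contra hn
      have h0 := hout χ hn 0 (by norm_num)
      have h1 := hout χ hn 1 (by norm_num)
      simp [col] at h0 h1
      rcases sgn_cases (coef h χ.1) with e | e <;> rcases hsupp χ hQχ with hh | hh <;>
        rw [e] at h0 h1 <;> omega
    have : χ ∈ l.filter (P ∘ pre (col h) 4) := List.mem_filter.mpr ⟨hχl, (hPQ χ).mpr hQχ⟩
    rw [hm, List.mem_singleton] at this
    exact hne this
  rw [final, Bool.or_eq_true, Bool.or_eq_true, beq_iff_eq, beq_iff_eq] at hfin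
  have hperm : (l.map (pre (col h) 4)).Perm solution := by
    rcases hfin with (e | e) | e
    · exact absurd e (kill poleW _ (poleW_col h) (fun χ hp => Or.inl fun h0 => hp.1 (by rw [h0]; rfl))
        fun χ₀ h0 => h.no_unique_pole χ₀ h0)
    · refine absurd e (kill poleU _ (poleU_col h) (fun χ hp => Or.inr fun h0 => hp.1 ?_)
        fun χ₀ h0 => h.comp_mirror.no_unique_pole χ₀ h0)
      rw [coef_mirror h]; simp [h0]
    · exact List.isPerm_iff.mp e
  have hnd : (l.map (pre (col h) 4)).Nodup := hperm.nodup_iff.mpr (by decide)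
  have hsel : ∀ k : Fin 8, ∃ χ ∈ l, pre (col h) 4 χ = solution.getD k [] := fun k =>
    List.mem_map.mp (hperm.mem_iff.mpr (by revert k; decide))
  choose f hfl hf using hsel
  refine ⟨f, fun a b e => ?_, fun k i => ?_, fun χ hχ i => ?_⟩
  · have hinj : ∀ a b : Fin 8, solution.getD a [] = solution.getD b [] → a = b := by decide
    exact hinj a b ((hf a).symm.trans ((congrArg (pre (col h) 4) e).trans (hf b)))
  · rw [← hf k, pre_four]
    fin_cases i <;> rfl
  · have hn : χ ∉ l := fun hm => by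
      obtain ⟨k, hk⟩ : ∃ k : Fin 8, pre (col h) 4 χ = solution.getD k [] := by
        have hmem := hperm.mem_iff.mp (List.mem_map_of_mem hm)
        obtain ⟨k, hk, he⟩ := List.mem_iff_getElem.mp hmem
        exact ⟨⟨k, hk⟩, by rw [← he, List.getD_eq_getElem?_getD, List.getElem?_eq_getElem hk]; rfl⟩
      exact hχ k (List.inj_on_of_nodup_map hnd (hfl k) hm ((hf k).trans hk.symm))
    have h0 := hout χ hn i i.2
    rw [col_fin] at h0
    rcases sgn_cases (coef h χ.1) with e | e <;> rw [e] at h0 <;> omega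

set_option maxHeartbeats 2000000 in
/-- With the two involution classes apart, some character is linear. -/
theorem Loc.exists_linear_of (h : Loc Φ) (hz : ¬ IsConj (Φ (invRep 1)) (Φ (invRep 2))) :
    ∃ χ : IrrCharacter G, χ ≠ (irrOne : IrrCharacter G) ∧ deg χ = 1 := by
  classical
  haveI : Fintype (NonTriv G) := Fintype.ofFinite _
  obtain ⟨G₀, hG, hG3⟩ := h.sylow
  set pT := classB Φ
  have hpT : pT = ![false, true, false] := by
    refine (classB_eq h).resolve_right fun e => hz ?_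
    have := congrFun e 2
    simpa [classB] using this
  set pS : Fin 3 → Bool := ![true, false, true] with hpS
  have hSc : Closed Φ pS := by
    intro k l hkl hk
    have hl : l ≠ 1 := by
      rintro rfl
      fin_cases k <;> simp [hpS] at hk
      · exact h.reflections_not_conj hkl
      · exact hz hkl.symm
    fin_cases l <;> simp [hpS] at hl ⊢
  have hTc : Closed Φ pT := closed_classB
  obtain ⟨t, ht, hzT⟩ := h.shifted_classB
  choose z hz3 hzc using hzT
  obtain ⟨f, hf, hcol, hout⟩ := h.exists_eight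
  set ε : Fin 8 → ℤ := fun k => sgn (coef h (f k).1)
  set C : Fin 8 → Fin 4 → ℤ := fun k i => (solution.getD k []).getD i 0
  have hε : ∀ k, ε k = 1 ∨ ε k = -1 := fun k => sgn_cases _
  have hc : ∀ k i, coef h (f k).1 i = ε k * C k i := fun k i => by
    have := hcol k i
    rw [col_fin] at this
    rcases hε k with e | e <;> simp only [ε, C] at * <;> rw [e] at this ⊢ <;> omega
  set D : Fin 8 → ℤ := fun k => ε k * deg (f k).1
  set X : Fin 8 → ℤ := fun k => ε k * shifted Φ pS (f k).1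
  set Y : Fin 8 → ℤ := fun k => ε k * shifted Φ pT (f k).1
  have hD0 : ∀ k, D k ≠ 0 := fun k => mul_ne_zero (by rcases hε k with e | e <;> omega) (by
    exact_mod_cast (deg_pos (f k).1).ne')
  have red : ∀ (F : NonTriv G → ℚ), (∀ χ, (∀ i, coef h χ.1 i = 0) → F χ = 0) → ∑ χ, F χ = ∑ k, F (f k) := by
    intro F hF
    rw [← Finset.sum_image fun a _ b _ e => hf e]
    refine (Finset.sum_subset (Finset.subset_univ _) fun χ _ hχ => hF χ (hout χ fun k hk => hχ ?_)).symm
    exact Finset.mem_image.mpr ⟨k, Finset.mem_univ _, hk⟩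
  have rd : ∀ i, ∑ k, (C k i : ℚ) * D k = (![1, 1, 0, 0] i : ℤ) := fun i => by
    rw [← sum_coef_deg h i]
    push_cast
    rw [red _ fun χ hχ => by simp [hχ i]]
    refine Finset.sum_congr rfl fun k _ => ?_
    rcases hε k with e | e <;> simp [D, hc, e]
  have rl : ∀ p i, ∑ k, (C k i : ℚ) * (ε k * shifted Φ p (f k).1 : ℤ) = 0 := fun p i => by
    have h0 := congrArg (Int.cast : ℤ → ℚ) (sum_coef_shifted h p i)
    push_cast at h0
    rw [red _ fun χ hχ => by simp [hχ i]] at h0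
    rw [← h0]
    refine Finset.sum_congr rfl fun k _ => ?_
    rcases hε k with e | e <;> simp [hc, e]
  have rq : ∀ p q, Closed Φ p → Closed Φ q → ∀ i, ∑ k, (C k i : ℚ) * ((ε k * shifted Φ p (f k).1 : ℤ) : ℚ) *
      ((ε k * shifted Φ q (f k).1 : ℤ) : ℚ) / D k = (∑ j, weight i j * (pairCount p q j : ℚ)) * (Nat.card G : ℚ) := by
    intro p q hp hq i
    rw [mul_comm _ (Nat.card G : ℚ), ← structure_eq h hp hq i, red _ fun χ hχ => by simp [hχ i]]
    refine Finset.sum_congr rfl fun k _ => ?_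
    rcases hε k with e | e <;> simp [D, hc, e, neg_div, div_neg]
  obtain ⟨v1, v2, v3, -, -⟩ := pairCount_values
  have qS := rq pS pS hSc hSc
  have qT := rq pT pT hTc hTc
  have qST := rq pS pT hSc hTc
  have lS := rl pS
  have lT := rl pT
  simp only [hpT, hpS] at qS qT qST lS lT
  have sums : ∀ (F : Fin 8 → ℚ) (i : Fin 4), ∑ k, (C k i : ℚ) * F k =
      ![F 5 + F 6 + F 7, F 3 + F 4 + F 7, F 1 + F 2 + F 4 + F 7, F 0 + F 2 + F 6 + F 7] i := by
    intro F i
    fin_cases i <;> simp [Fin.sum_univ_eight, C, solution]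
  have sums' : ∀ (F F' : Fin 8 → ℚ) (i : Fin 4), ∑ k, (C k i : ℚ) * F k * F' k / D k =
      ![F 5 * F' 5 / D 5 + F 6 * F' 6 / D 6 + F 7 * F' 7 / D 7,
        F 3 * F' 3 / D 3 + F 4 * F' 4 / D 4 + F 7 * F' 7 / D 7,
        F 1 * F' 1 / D 1 + F 2 * F' 2 / D 2 + F 4 * F' 4 / D 4 + F 7 * F' 7 / D 7,
        F 0 * F' 0 / D 0 + F 2 * F' 2 / D 2 + F 6 * F' 6 / D 6 + F 7 * F' 7 / D 7] i := by
    intro F F' i
    fin_cases i <;> simp [Fin.sum_univ_eight, C, solution]
  simp only [sums'] at qS qT qST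
  simp only [sums] at rd lS lT
  have d0 := rd 0; have d1 := rd 1; have d2 := rd 2; have d3 := rd 3
  have a0 := lS 0; have a1 := lS 1; have a2 := lS 2; have a3 := lS 3
  have b0 := lT 0; have b1 := lT 1; have b2 := lT 2; have b3 := lT 3
  have s0 := qS 0; have s1 := qS 1; have s2 := qS 2; have s3 := qS 3
  have t0 := qT 0; have t1 := qT 1; have t2 := qT 2; have t3 := qT 3
  have m0 := qST 0; have m1 := qST 1; have m2 := qST 2; have m3 := qST 3
  simp [Fin.sum_univ_four, weight, v1, v2, v3] at d0 d1 d2 d3 a0 a1 a2 a3 b0 b1 b2 b3 s0 s1 s2 s3 t0 t1 t2 t3 m0 m1 m2 m3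
  norm_cast at d0 d1 d2 d3 a0 a1 a2 a3 b0 b1 b2 b3
  have hW : ∀ k, Y k = 3 * (ε k * z (f k).1) := fun k => by
    show ε k * shifted Φ pT (f k).1 = _
    rw [hz3]; ring
  have hmod : ∀ k, (9 : ℤ) ∣ D k - 4 * (C k 0 + C k 1 + C k 2 + C k 3) ∧
      (3 : ℤ) ∣ ε k * z (f k).1 - t * ((C k 3 - C k 1) - D k) := by
    intro k
    obtain ⟨-, -, -, -, h9⟩ := coef_spec h (f k).1
    have h3 := hzc (f k).1
    simp only [hc] at h9 h3
    rcases hε k with e | e <;> simp only [D, e] at h9 h3 ⊢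
    · exact ⟨by simpa using h9, by simpa using h3⟩
    · refine ⟨?_, ?_⟩
      · have := dvd_neg.mpr h9; ring_nf at this ⊢; exact this
      · have := dvd_neg.mpr h3; ring_nf at this ⊢; exact this
  have hR := (hmod 7).1
  have h6 := (hmod 6).1
  have h4 := (hmod 4).1
  have h2 := (hmod 2).1
  simp [C, solution] at hR h6 h4 h2
  have hΔ : ∀ k a, (9 : ℤ) ∣ D k - 8 → C k 3 - C k 1 = a → ¬ (3 : ℤ) ∣ a + 1 + (-1 : ℤ) →
      ¬ (3 : ℤ) ∣ ε k * z (f k).1 * D 7 - ε 7 * z (f 7).1 * D k := by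
    intro k a hk ha hn hd
    obtain ⟨m1, hm1⟩ := (hmod k).2
    obtain ⟨m7, hm7⟩ := (hmod 7).2
    obtain ⟨r, hr⟩ : (3 : ℤ) ∣ D 7 - 1 := by omega
    obtain ⟨m, hm⟩ := hd
    have e7 : C 7 3 - C 7 1 = 0 := by simp [C, solution]
    rw [e7] at hm7
    rw [ha] at hm1
    have : (3 : ℤ) ∣ t * a := by
      refine ⟨m - m1 * D 7 + m7 * D k - t * a * r, ?_⟩
      linear_combination hm - (D 7) * hm1 + (D k) * hm7 - t * a * hr
    rcases Int.prime_three.dvd_or_dvd this with h' | h'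
    · exact ht h'
    · exact hn (by simpa using h')
  have key := main (g := (Nat.card G : ℤ)) (G₀ := (G₀ : ℤ)) (by exact_mod_cast hG)
    (by exact_mod_cast Nat.card_pos) (by omega)
    (p₁ := D 0) (p₂ := D 1) (p₃ := D 3) (p₄ := D 5) (q₁ := D 6) (q₂ := D 4) (q₄ := D 2) (R := D 7)
    (a₁ := X 0) (a₂ := X 1) (a₃ := X 3) (a₄ := X 5) (u₁ := X 6) (u₂ := X 4) (u₄ := X 2) (U := X 7)
    (b₁ := Y 0) (b₂ := Y 1) (b₃ := Y 3) (b₄ := Y 5) (w₁ := Y 6) (w₂ := Y 4) (w₄ := Y 2) (W := Y 7)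
    ⟨hD0 0, hD0 1, hD0 3, hD0 5, hD0 6, hD0 4, hD0 2, hD0 7⟩
    ?_ ?_ ?_ ?_ (by omega) (by omega) (by omega) (by omega) (hW 7) (hW 4) (hW 2) ⟨_, hW 6⟩
    (hΔ 4 (-1) (by omega) (by simp [C, solution]) (by norm_num))
    (hΔ 2 1 (by omega) (by simp [C, solution]) (by norm_num))
  · refine ⟨(f 2).1, (f 2).2, ?_⟩
    rcases hε 2 with e | e <;> simp only [D, e] at key
    · exfalso; have := deg_pos (f 2).1; omega
    · omega
  · refine ⟨?_, ?_, ?_, ?_, ?_, ?_⟩ <;> simp [Fin.sum_univ_three, X, Y, hpT, hpS] <;>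
      first | linarith | linear_combination s0 | linear_combination t0 | linear_combination m0
  · refine ⟨?_, ?_, ?_, ?_, ?_, ?_⟩ <;> simp [Fin.sum_univ_three, X, Y, hpT, hpS] <;>
      first | linarith | linear_combination s1 | linear_combination t1 | linear_combination m1
  · refine ⟨?_, ?_, ?_, ?_, ?_, ?_⟩ <;> simp [Fin.sum_univ_four, X, Y, hpT, hpS] <;>
      first | linarith | linear_combination s2 | linear_combination t2 | linear_combination m2
  · refine ⟨?_, ?_, ?_, ?_, ?_, ?_⟩ <;> simp [Fin.sum_univ_four, X, Y, hpT, hpS] <;>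
      first | linarith | linear_combination s3 | linear_combination t3 | linear_combination m3

/-- Such a group has a non-trivial linear character. -/
theorem Loc.exists_linear (h : Loc Φ) : ∃ χ : IrrCharacter G, χ ≠ (irrOne : IrrCharacter G) ∧ deg χ = 1 := by
  by_cases hz : IsConj (Φ (invRep 1)) (Φ (invRep 2))
  · refine h.comp_mirror.exists_linear_of fun hc => h.reflections_not_conj ?_
    have e1 := isConj_map (Φ := Φ) (mirror_inv 1)
    have e2 := isConj_map (Φ := Φ) (mirror_inv 2)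
    exact (e1.trans hc).trans (e2.symm.trans hz.symm)
  · exact h.exists_linear_of hz

end CfsgLib.SmallGroups.DihedralThree
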