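import Mathlib

/-!
The group `3² ⋊ D₈` of order `72`.
-/

set_option autoImplicit false

namespace CfsgLib.SmallGroups.DihedralThree

abbrev V := ZMod 3 × ZMod 3

def quarter : ZMod 4 → V → V := fun i v =>
  (![v, (-v.2, v.1), (-v.1, -v.2), (v.2, -v.1)] : Fin 4 → V) i

def planeMap : DihedralGroup 4 → Multiplicative V → Multiplicative V
  | .r i, v => Multiplicative.ofAdd (quarter i v.toAdd)
  | .sr i, v => Multiplicative.ofAdd ((quarter i v.toAdd).1, -(quarter i v.toAdd).2)

theorem planeMap_mul : ∀ t s v, planeMap (t * s) v = planeMap t (planeMap s v) := by decide +kernel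

theorem planeMap_one : ∀ v, planeMap 1 v = v := by decide +kernel

theorem planeMap_hom : ∀ t u v, planeMap t (u * v) = planeMap t u * planeMap t v := by decide +kernel

def actD : DihedralGroup 4 →* MulAut (Multiplicative V) where
  toFun t :=
    { toFun := planeMap t
      invFun := planeMap t⁻¹
      left_inv := fun v => by rw [← planeMap_mul, inv_mul_cancel, planeMap_one]
      right_inv := fun v => by rw [← planeMap_mul, mul_inv_cancel, planeMap_one]
      map_mul' := planeMap_hom t }
  map_one' := MulEquiv.ext planeMap_one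
  map_mul' t s := MulEquiv.ext (planeMap_mul t s)

/-- The group `3² ⋊ D₈`. -/
abbrev Local72 := Multiplicative V ⋊[actD] DihedralGroup 4

instance instFintypeLocal72 : Fintype Local72 := Fintype.ofEquiv _ SemidirectProduct.equivProd.symm

instance instDecidableEqLocal72 : DecidableEq Local72 := fun a b =>
  decidable_of_iff (a.left = b.left ∧ a.right = b.right) SemidirectProduct.ext_iff.symm

/-- An element of the plane. -/
def vec (a b : ZMod 3) : Local72 := SemidirectProduct.inl (Multiplicative.ofAdd (a, b))

def eA : Local72 := vec 1 0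
def eB : Local72 := vec 1 1
def sA : Local72 := SemidirectProduct.inr (.sr 0)
def sB : Local72 := SemidirectProduct.inr (.sr 3)
def zN : Local72 := SemidirectProduct.inr (.r 2)

/-- The four exceptional classes. -/
def rep : Fin 4 → Local72 := ![eA, eB, eA * sA, eB * sB]

/-- The kind of an involution. -/
def invRep : Fin 3 → Local72 := ![sA, sB, zN]

def invKind (x : Local72) : Fin 3 :=
  match x.right with
  | .r _ => 2
  | .sr i => if i.val % 2 = 0 then 0 else 1

theorem card_local72 : Fintype.card Local72 = 72 := by decide +kernel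

theorem involution_conj : ∀ x : Local72, x * x = 1 → x ≠ 1 → ∃ c, c * invRep (invKind x) * c⁻¹ = x := by
  decide +kernel

theorem invRep_spec : ∀ k, invRep k * invRep k = 1 ∧ invRep k ≠ 1 ∧ invKind (invRep k) = k := by
  decide +kernel

theorem rep_centralizer : ∀ k,
    (Finset.univ.filter fun c => c * rep k = rep k * c).card = ![18, 18, 6, 6] k := by decide +kernel

theorem rep_not_conj : ∀ k l, k ≠ l → ∀ c, c * rep k * c⁻¹ ≠ rep l := by decide +kernel

theorem rep_pow : ∀ k, rep k ^ 4 ≠ 1 ∧ (rep k ^ 4) ^ 3 = 1 := by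
  intro k
  refine ⟨?_, ?_⟩ <;> revert k <;> decide +kernel

theorem rep_real : ∀ k, ∃ c, c * rep k * c⁻¹ = (rep k)⁻¹ := by decide +kernel

theorem rep_ne_one : ∀ k, rep k ≠ 1 := by decide +kernel

theorem rep_sq_ne_one : ∀ k, rep k * rep k ≠ 1 := by decide +kernel

theorem plane_conj : ∀ a b : ZMod 3, (a, b) ≠ (0, 0) →
    ∃ c, c * (if a = 0 ∨ b = 0 then eA else eB) * c⁻¹ = vec a b := by decide +kernel

/-- Number of solutions `x x' = rep k` with `x`, `x'` involutions of the allowed kinds. -/
def pairCount (p q : Fin 3 → Bool) (k : Fin 4) : ℕ :=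
  (Finset.univ.filter fun a : Local72 => a * a = 1 ∧ a ≠ 1 ∧ p (invKind a) = true ∧
    a * rep k * (a * rep k) = 1 ∧ a * rep k ≠ 1 ∧ q (invKind (a * rep k)) = true).card

theorem pairCount_values :
    (∀ k, pairCount ![true, false, true] ![true, false, true] k = ![12, 9, 6, 0] k) ∧
    (∀ k, pairCount ![false, true, false] ![false, true, false] k = ![0, 3, 0, 0] k) ∧
    (∀ k, pairCount ![true, false, true] ![false, true, false] k = ![0, 0, 0, 3] k) ∧
    (∀ k, pairCount ![true, false, false] ![true, false, false] k = ![3, 0, 0, 0] k) ∧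
    (∀ k, pairCount ![false, true, true] ![false, true, true] k = ![9, 12, 0, 6] k) := by decide +kernel

def swapKind : DihedralGroup 4 → DihedralGroup 4
  | .r i => .r i
  | .sr i => .sr (i + 3)

def swapKindInv : DihedralGroup 4 → DihedralGroup 4
  | .r i => .r i
  | .sr i => .sr (i + 1)

def mirrorFun (x : Local72) : Local72 :=
  ⟨Multiplicative.ofAdd (x.left.toAdd.1 - x.left.toAdd.2, x.left.toAdd.1 + x.left.toAdd.2), swapKind x.right⟩

def mirrorInv (x : Local72) : Local72 :=
  ⟨Multiplicative.ofAdd (-(x.left.toAdd.1 + x.left.toAdd.2), x.left.toAdd.1 - x.left.toAdd.2),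
    swapKindInv x.right⟩

theorem mirror_left : ∀ x, mirrorInv (mirrorFun x) = x := by decide +kernel

theorem mirror_right : ∀ x, mirrorFun (mirrorInv x) = x := by decide +kernel

theorem mirror_mul : ∀ x y, mirrorFun (x * y) = mirrorFun x * mirrorFun y := by decide +kernel

/-- The automorphism exchanging the two kinds of reflections. -/
def mirror : Local72 ≃* Local72 where
  toFun := mirrorFun
  invFun := mirrorInv
  left_inv := mirror_left
  right_inv := mirror_right
  map_mul' := mirror_mul

theorem mirror_rep : ∀ k, ∃ c, c * rep (![1, 0, 3, 2] k) * c⁻¹ = mirror (rep k) := by decide +kernel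

theorem mirror_inv : ∀ k, ∃ c, c * invRep (![1, 0, 2] k) * c⁻¹ = mirror (invRep k) := by decide +kernel

/-- `C₃ × C₂` inside. -/
def sixHom (k : Fin 2) (a : ZMod 3) (b : ZMod 2) : Local72 :=
  (![eA, eB] k) ^ a.val * (![sA, sB] k) ^ b.val

theorem sixHom_mul : ∀ k a b a' b', sixHom k (a + a') (b + b') = sixHom k a b * sixHom k a' b' := by
  decide +kernel

theorem sixHom_values : ∀ k, sixHom k 0 0 = 1 ∧ sixHom k 0 1 = invRep (Fin.castSucc k) ∧
    (∀ a, a ≠ 0 → (∃ c, c * rep (Fin.castLE (by omega) k) * c⁻¹ = sixHom k a 0) ∧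
      ∃ c, c * rep ⟨k.val + 2, by omega⟩ * c⁻¹ = sixHom k a 1) := by decide +kernel

end CfsgLib.SmallGroups.DihedralThree
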