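import Cfsg.Agent.Lib.SmallGroups.DihedralThree.Model
import Mathlib

/-!
Linear maps of the plane over three elements.
-/

set_option autoImplicit false

namespace CfsgLib.SmallGroups.DihedralThree

/-- The linear map with given images of the two basis vectors. -/
def app (c : V × V) (v : V) : V :=
  (v.1 * c.1.1 + v.2 * c.2.1, v.1 * c.1.2 + v.2 * c.2.2)

theorem app_eq (f : V →+ V) : ∀ v, f v = app (f (1, 0), f (0, 1)) v := by
  intro v
  have hv : v = v.1.val • ((1, 0) : V) + v.2.val • ((0, 1) : V) := by revert v; decide
  have key : ∀ (x y : V) (a b : ZMod 3), a.val • x + b.val • y = app (x, y) (a, b) := by decide +kernel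
  conv_lhs => rw [hv]
  rw [map_add, map_nsmul, map_nsmul, key]

theorem bijective_order : ∀ c : V × V, (∀ v, app c v = (0, 0) → v = (0, 0)) →
    ∀ v, (app c)^[24] v = v := by decide +kernel

set_option synthInstance.maxSize 4096 in
set_option synthInstance.maxHeartbeats 200000 in
theorem dihedral_form : ∀ R : V × V, (∀ v, app R (app R (app R (app R v))) = v) →
    (∃ v, app R (app R v) ≠ v) → ∀ S : V × V, (∀ v, app S (app S v) = v) →
    (∀ v, app S (app R (app S (app R v))) = v) → (∃ v, app S v ≠ v) → (∃ v, app S v ≠ app R (app R v)) →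
    ∃ e : V, app S e = e ∧ (∀ v, ∃ a b : ZMod 3, v = app (e, app R e) (a, b)) ∧
      app R (app R e) = -e ∧ app S (app R e) = -(app R e) := by decide +kernel

end CfsgLib.SmallGroups.DihedralThree
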