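import Cfsg.Agent.Lib.SmallGroups.DihedralThree.Main
import Cfsg.Agent.Lib.SmallGroups.DihedralThree.Plane
import Mathlib

/-!
The normalizer of a self-centralising Sylow `3`-subgroup of order `9` with dihedral Sylow `2`-subgroup.
-/

set_option autoImplicit false

namespace CfsgLib.SmallGroups.DihedralThree

open Subgroup

theorem plane_of_cube : ∀ y : Local72, y ^ 3 = 1 → ∃ a b, y = vec a b := by decide +kernel

theorem zmod3_pow {H : Type*} [Group H] {x : H} (hx : x ^ 3 = 1) (a b : ZMod 3) :
    x ^ (a + b).val = x ^ a.val * x ^ b.val := by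
  rw [← pow_add, ZMod.val_add]
  conv_rhs => rw [← Nat.mod_add_div (a.val + b.val) 3, pow_add, pow_mul, hx, one_pow, mul_one]

/-- The homomorphism from the plane given by two commuting elements of exponent `3`. -/
def planeHom {H : Type*} [CommGroup H] (hH : ∀ x : H, x ^ 3 = 1) (x y : H) : Multiplicative V →* H where
  toFun v := x ^ v.toAdd.1.val * y ^ v.toAdd.2.val
  map_one' := by simp
  map_mul' u v := by
    simp only [toAdd_mul, Prod.fst_add, Prod.snd_add, zmod3_pow (hH x), zmod3_pow (hH y)]
    rw [mul_mul_mul_comm]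

theorem planeHom_apply {H : Type*} [CommGroup H] (hH : ∀ x : H, x ^ 3 = 1) (x y : H) (a b : ZMod 3) :
    planeHom hH x y (Multiplicative.ofAdd (a, b)) = x ^ a.val * y ^ b.val := rfl

theorem key3 : ∀ c : ZMod 3, c = 0 ∨ c = 1 ∨ c = 2 := by decide

/-- A group of order `9` and exponent `3` is a plane. -/
theorem exists_plane {H : Type*} [CommGroup H] [Finite H] (hH : ∀ x : H, x ^ 3 = 1) (h9 : Nat.card H = 9) :
    ∃ e : Multiplicative V ≃* H, True := by
  classical
  haveI : Nontrivial H := Finite.one_lt_card_iff_nontrivial.mp (by omega)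
  obtain ⟨x, hx⟩ := exists_ne (1 : H)
  haveI : Fact (Nat.Prime 3) := ⟨Nat.prime_three⟩
  have hox : Nat.card (Subgroup.zpowers x) = 3 := by rw [Nat.card_zpowers]; exact orderOf_eq_prime (hH x) hx
  obtain ⟨y, hy⟩ : ∃ y, y ∉ Subgroup.zpowers x := by
    by_contra hall
    push Not at hall
    rw [Subgroup.eq_top_iff' _ |>.mpr hall, Subgroup.card_top] at hox
    omega
  have hinj : Function.Injective (planeHom hH x y) := by
    rw [injective_iff_map_eq_one]
    intro v hv
    obtain ⟨⟨a, b⟩, rfl⟩ := Multiplicative.ofAdd.surjective v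
    rw [planeHom_apply] at hv
    have key := key3
    rcases key b with rfl | rfl | rfl
    · rcases key a with rfl | rfl | rfl
      · rfl
      · exact absurd (by simpa [show (1 : ZMod 3).val = 1 from rfl] using hv) hx
      · have : x ^ 2 = 1 := by simpa [show (2 : ZMod 3).val = 2 from rfl] using hv
        have h3 := hH x
        rw [pow_succ, this, one_mul] at h3
        exact absurd h3 hx
    · refine absurd ?_ hy
      rw [show (1 : ZMod 3).val = 1 from rfl, pow_one, mul_eq_one_iff_inv_eq] at hv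
      rw [← hv]; exact Subgroup.inv_mem _ (Subgroup.pow_mem _ (Subgroup.mem_zpowers x) _)
    · refine absurd ?_ hy
      rw [show (2 : ZMod 3).val = 2 from rfl, mul_eq_one_iff_inv_eq] at hv
      have : y = (y ^ 2)⁻¹ := by rw [eq_inv_iff_mul_eq_one, ← pow_succ', hH y]
      rw [this, ← hv, inv_inv]; exact Subgroup.pow_mem _ (Subgroup.mem_zpowers x) _
  refine ⟨MulEquiv.ofBijective _ ((Nat.bijective_iff_injective_and_card _).mpr ⟨hinj, ?_⟩), trivial⟩
  rw [h9, Nat.card_eq_fintype_card]; rfl

variable {G : Type*} [Group G] [Finite G]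

theorem exists_loc (M : Sylow 3 G) (hM9 : Nat.card ↥(M : Subgroup G) = 9)
    (hMel : ∀ m ∈ (M : Subgroup G), m ^ 3 = 1)
    (hCM : Subgroup.centralizer ((M : Subgroup G) : Set G) = (M : Subgroup G))
    (hCg : ∀ g ∈ (M : Subgroup G), g ≠ 1 →
      Subgroup.centralizer ({g} : Set G) ≤ Subgroup.normalizer ((M : Subgroup G) : Set G))
    (hS : ∀ S : Sylow 2 ↥(Subgroup.normalizer ((M : Subgroup G) : Set G)),
      Nonempty (↥(S : Subgroup ↥(Subgroup.normalizer ((M : Subgroup G) : Set G))) ≃* DihedralGroup 4)) :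
    ∃ Φ : Local72 →* G, Loc Φ := by
  classical
  haveI : Fact (Nat.Prime 3) := ⟨Nat.prime_three⟩
  haveI : Fact (Nat.Prime 2) := ⟨Nat.prime_two⟩
  set N := Subgroup.normalizer ((M : Subgroup G) : Set G) with hN
  haveI hcomm : IsMulCommutative (M : Subgroup G) := ⟨⟨fun a b => Subtype.ext (by
    have : (b : G) ∈ Subgroup.centralizer ((M : Subgroup G) : Set G) := hCM.symm ▸ b.2
    exact Subgroup.mem_centralizer_iff.mp this a a.2)⟩⟩
  letI : CommGroup (M : Subgroup G) := { (inferInstance : Group (M : Subgroup G)) with mul_comm := fun a b => hcomm.is_comm.comm a b }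
  have hMx : ∀ x : (M : Subgroup G), x ^ 3 = 1 := fun x => Subtype.ext (hMel x x.2)
  obtain ⟨e₀, -⟩ := exists_plane hMx hM9
  -- automorphisms as linear maps
  let mat : MulAut (M : Subgroup G) → V × V := fun f =>
    ((e₀.symm (f (e₀ (Multiplicative.ofAdd (1, 0))))).toAdd, (e₀.symm (f (e₀ (Multiplicative.ofAdd (0, 1))))).toAdd)
  have hmat : ∀ f v, (e₀.symm (f (e₀ (Multiplicative.ofAdd v)))).toAdd = app (mat f) v := fun f v =>
    app_eq (((e₀.trans f).trans e₀.symm).toAdditive).toAddMonoidHom v
  have hinjm : ∀ f g : MulAut (M : Subgroup G), (∀ v, app (mat f) v = app (mat g) v) → f = g := fun f g h => by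
    refine MulEquiv.ext fun x => e₀.symm.injective (Multiplicative.toAdd.injective ?_)
    have := h (e₀.symm x).toAdd
    rw [← hmat, ← hmat] at this
    simpa using this
  have hmul : ∀ (f g : MulAut (M : Subgroup G)) v, app (mat (f * g)) v = app (mat f) (app (mat g) v) := fun f g v => by
    rw [← hmat, ← hmat g, ← hmat f]; simp
  have hone : ∀ v, app (mat 1) v = v := fun v => by rw [← hmat]; simp
  set act : N →* MulAut (M : Subgroup G) := (M : Subgroup G).normalizerMonoidHom with hact
  have hker : act.ker = (M : Subgroup G).subgroupOf N := by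
    rw [hact, Subgroup.normalizerMonoidHom_ker, hCM]
  have hMN : Nat.card ((M : Subgroup G).subgroupOf N) = 9 :=
    (Nat.card_congr (Subgroup.subgroupOfEquivOfLe Subgroup.le_normalizer).toEquiv).trans hM9
  -- the order of `N`
  have h72 : Nat.card N = 72 := by
    have hidx := Subgroup.card_mul_index act.ker
    rw [hker, hMN] at hidx
    set i := ((M : Subgroup G).subgroupOf N).index with hi
    have hi3 : ¬ 3 ∣ i := by
      intro hd
      have h1 : (M : Subgroup G).index = i * N.index :=
        (Subgroup.relIndex_mul_index (Subgroup.le_normalizer (H := (M : Subgroup G)))).symm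
      exact M.not_dvd_index (h1 ▸ dvd_mul_of_dvd_left hd _)
    have hrange : Nat.card act.range = i := by rw [← Subgroup.index_ker, hker]
    have hprimes : ∀ p : ℕ, p.Prime → p ∣ i → p = 2 := by
      intro p hp hpi
      haveI : Fact p.Prime := ⟨hp⟩
      obtain ⟨f, hf⟩ := exists_prime_orderOf_dvd_card' p (hrange ▸ hpi : p ∣ Nat.card act.range)
      have hit : ∀ (n : ℕ) v, app (mat ((f : MulAut (M : Subgroup G)) ^ n)) v = (app (mat f))^[n] v := by
        intro n
        induction n with
        | zero => exact hone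
        | succ n ih => intro v; rw [pow_succ', hmul, ih, Function.iterate_succ_apply']
      have h24 : f ^ 24 = 1 := by
        refine Subtype.ext (hinjm _ _ fun v => ?_)
        rw [SubgroupClass.coe_pow, hit, OneMemClass.coe_one, hone]
        refine bijective_order _ (fun v hv => ?_) v
        have := congrArg (app (mat (f : MulAut (M : Subgroup G))⁻¹)) hv
        rw [← hmul, inv_mul_cancel, hone] at this
        rw [this]
        simp [app]
      have hd : p ∣ 2 ^ 3 * 3 := hf ▸ orderOf_dvd_of_pow_eq_one h24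
      rcases (Nat.Prime.dvd_mul hp).mp hd with h | h
      · exact (Nat.prime_dvd_prime_iff_eq hp Nat.prime_two).mp (hp.dvd_of_dvd_pow h)
      · exact absurd (((Nat.prime_dvd_prime_iff_eq hp Nat.prime_three).mp h) ▸ hpi) hi3
    let S₀ : Sylow 2 N := default
    obtain ⟨eS⟩ := hS S₀
    have hcardS : Nat.card (S₀ : Subgroup N) = 8 := by rw [Nat.card_congr eS.toEquiv, DihedralGroup.nat_card]
    have hi0 : i ≠ 0 := Subgroup.index_ne_zero_of_finite
    have hS8 := S₀.card_eq_multiplicity
    rw [hcardS, ← hidx, Nat.factorization_mul (by norm_num) hi0, Finsupp.add_apply,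
      Nat.factorization_eq_zero_of_not_dvd (show ¬ 2 ∣ 9 by norm_num), zero_add] at hS8
    have : i = 2 ^ i.factorization 2 := by
      refine Nat.eq_pow_of_factorization_eq_single hi0 ?_
      ext p
      by_cases hp2 : p = 2
      · subst hp2; simp
      · rw [Finsupp.single_eq_of_ne (by omega)]
        by_cases hp : p.Prime
        · exact Nat.factorization_eq_zero_of_not_dvd fun hd => hp2 (hprimes p hp hd)
        · exact Nat.factorization_eq_zero_of_not_prime _ hp
    omega
  -- the dihedral complement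
  obtain ⟨eS⟩ := hS default
  let ι : DihedralGroup 4 →* N :=
    ((default : Sylow 2 N) : Subgroup N).subtype.comp eS.symm.toMonoidHom
  have hιinj : Function.Injective ι := Subtype.val_injective.comp eS.symm.injective
  let ρ : DihedralGroup 4 →* MulAut (M : Subgroup G) := act.comp ι
  have hρinj : Function.Injective ρ := by
    rw [injective_iff_map_eq_one]
    intro t ht
    have hm : ι t ∈ (M : Subgroup G).subgroupOf N := hker ▸ MonoidHom.mem_ker.mpr ht
    have h3 : ι t ^ 3 = 1 := Subtype.ext (hMel _ hm)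
    exact (by decide +kernel : ∀ t : DihedralGroup 4, t ^ 3 = 1 → t = 1) t (hιinj (by rw [map_pow, map_one, h3]))
  set R := mat (ρ (.r 1)) with hR
  set S := mat (ρ (.sr 0)) with hS'
  have hρv : ∀ t s v, app (mat (ρ (t * s))) v = app (mat (ρ t)) (app (mat (ρ s)) v) := fun t s v => by
    rw [map_mul, hmul]
  have hρ1 : ∀ v, app (mat (ρ 1)) v = v := fun v => by rw [map_one, hone]
  have hne : ∀ t s, t ≠ s → ∃ v, app (mat (ρ t)) v ≠ app (mat (ρ s)) v := fun t s hts => by
    by_contra hall
    push Not at hall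
    exact hts (hρinj (hinjm _ _ hall))
  obtain ⟨ε, hSe, hbasis, hRRe, hSRe⟩ := dihedral_form R
    (fun v => by
      simp only [hR, ← hρv]
      exact (congrArg (fun t => app (mat (ρ t)) v) (by decide : (DihedralGroup.r (1 : ZMod 4) * (.r 1 * (.r 1 * .r 1))) = 1)).trans (hρ1 v))
    (by
      obtain ⟨v, hv⟩ := hne (.r 1 * .r 1) 1 (by decide)
      exact ⟨v, by rwa [hρv, hρ1] at hv⟩) S
    (fun v => by
      simp only [hS', ← hρv]
      exact (congrArg (fun t => app (mat (ρ t)) v) (by decide : (DihedralGroup.sr (0 : ZMod 4) * .sr 0) = 1)).trans (hρ1 v))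
    (fun v => by
      simp only [hR, hS', ← hρv]
      exact (congrArg (fun t => app (mat (ρ t)) v) (by decide : (DihedralGroup.sr (0 : ZMod 4) * (.r 1 * (.sr 0 * .r 1))) = 1)).trans (hρ1 v))
    (by
      obtain ⟨v, hv⟩ := hne (.sr 0) 1 (by decide)
      exact ⟨v, by rwa [hρ1] at hv⟩)
    (by
      obtain ⟨v, hv⟩ := hne (.sr 0) (.r 1 * .r 1) (by decide)
      exact ⟨v, by rwa [hρv] at hv⟩)
  -- the adapted coordinates
  let B : V × V := (ε, app R ε)
  let ψ : Multiplicative V →* (M : Subgroup G) :=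
    e₀.toMonoidHom.comp
      { toFun := fun v => Multiplicative.ofAdd (app B v.toAdd)
        map_one' := by simp [app]
        map_mul' := fun u v => by
          rw [← ofAdd_add]; congr 1
          simp only [toAdd_mul, app, Prod.fst_add, Prod.snd_add, Prod.ext_iff]; constructor <;> ring }
  have hψ : Function.Injective ψ := by
    have hsurj : Function.Surjective (app B) := fun v => by
      obtain ⟨a, b, h⟩ := hbasis v; exact ⟨(a, b), h.symm⟩
    intro u v h
    exact Multiplicative.toAdd.injective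
      ((Finite.injective_iff_surjective.mpr hsurj) (Multiplicative.ofAdd.injective (e₀.injective h)))
  have hlin : ∀ c : V × V, ∀ x y : V, ∀ a b : ZMod 3,
      app c (app (x, y) (a, b)) = app (app c x, app c y) (a, b) := fun c x y a b => by
    simp only [app, Prod.ext_iff]; constructor <;> ring
  have hgenR : ∀ v, ρ (.r 1) (ψ v) = ψ (actD (.r 1) v) := by
    intro v
    obtain ⟨⟨a, b⟩, rfl⟩ := Multiplicative.ofAdd.surjective v
    refine e₀.symm.injective (Multiplicative.toAdd.injective ?_)
    change (e₀.symm (ρ (.r 1) (e₀ (Multiplicative.ofAdd (app B (a, b)))))).toAdd =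
      (e₀.symm (e₀ (Multiplicative.ofAdd (app B (-b, a))))).toAdd
    rw [hmat, ← hR, MulEquiv.symm_apply_apply, toAdd_ofAdd, hlin, hRRe]
    simp only [B, app, Prod.ext_iff, Prod.fst_neg, Prod.snd_neg]; constructor <;> ring
  have hgenS : ∀ v, ρ (.sr 0) (ψ v) = ψ (actD (.sr 0) v) := by
    intro v
    obtain ⟨⟨a, b⟩, rfl⟩ := Multiplicative.ofAdd.surjective v
    refine e₀.symm.injective (Multiplicative.toAdd.injective ?_)
    change (e₀.symm (ρ (.sr 0) (e₀ (Multiplicative.ofAdd (app B (a, b)))))).toAdd =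
      (e₀.symm (e₀ (Multiplicative.ofAdd (app B (a, -b))))).toAdd
    rw [hmat, ← hS', MulEquiv.symm_apply_apply, toAdd_ofAdd, hlin, hSe, hSRe]
    simp only [B, app, Prod.ext_iff, Prod.fst_neg, Prod.snd_neg]; constructor <;> ring
  have hcompat : ∀ t v, ρ t (ψ v) = ψ (actD t v) := by
    have hmulc : ∀ t s, (∀ v, ρ t (ψ v) = ψ (actD t v)) → (∀ v, ρ s (ψ v) = ψ (actD s v)) →
        ∀ v, ρ (t * s) (ψ v) = ψ (actD (t * s) v) := fun t s ht hs v => by
      rw [map_mul, map_mul, MulAut.mul_apply, MulAut.mul_apply, hs, ht]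
    have hpow : ∀ (n : ℕ) v, ρ (DihedralGroup.r 1 ^ n) (ψ v) = ψ (actD (DihedralGroup.r 1 ^ n) v) := by
      intro n
      induction n with
      | zero => intro v; simp
      | succ n ih => rw [pow_succ]; exact hmulc _ _ ih hgenR
    intro t
    cases t with
    | r i =>
      rw [show DihedralGroup.r i = DihedralGroup.r 1 ^ i.val by rw [DihedralGroup.r_one_pow, ZMod.natCast_zmod_val]]
      exact hpow _
    | sr i =>
      rw [show DihedralGroup.sr i = .sr 0 * DihedralGroup.r 1 ^ i.val by
        rw [DihedralGroup.r_one_pow, ZMod.natCast_zmod_val, DihedralGroup.sr_mul_r, zero_add]]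
      exact hmulc _ _ hgenS (hpow _)
  let Φ : Local72 →* G := SemidirectProduct.lift ((M : Subgroup G).subtype.comp ψ) (N.subtype.comp ι) fun t => by
    refine MonoidHom.ext fun v => ?_
    show ((ψ (actD t v) : (M : Subgroup G)) : G) = (ι t : G) * (ψ v : G) * (ι t : G)⁻¹
    rw [← hcompat]; rfl
  have hΦ : ∀ y : Local72, Φ y = (ψ y.left : G) * (ι y.right : G) := fun y => rfl
  have hinj : Function.Injective Φ := by
    rw [injective_iff_map_eq_one]
    intro y hy
    rw [hΦ] at hy
    have hm : ι y.right ∈ (M : Subgroup G).subgroupOf N := by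
      rw [Subgroup.mem_subgroupOf, eq_inv_of_mul_eq_one_right hy]
      exact inv_mem (ψ y.left).2
    have ht : y.right = 1 := hρinj (by
      rw [map_one]; exact MonoidHom.mem_ker.mp (hker.symm ▸ hm : ι y.right ∈ act.ker))
    rw [ht, map_one, OneMemClass.coe_one, mul_one] at hy
    exact SemidirectProduct.ext (hψ (by rw [SemidirectProduct.one_left, map_one]; exact Subtype.ext hy)) ht
  have hle : Φ.range ≤ N := by
    rintro _ ⟨y, rfl⟩
    rw [hΦ]
    exact mul_mem (Subgroup.le_normalizer (ψ y.left).2) (ι y.right).2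
  have hrange : Φ.range = N := Subgroup.eq_of_le_of_card_ge hle (by
    rw [h72, ← Nat.card_congr (MonoidHom.ofInjective hinj).toEquiv, Nat.card_eq_fintype_card, card_local72])
  have hmem : ∀ y : Local72, y ^ 3 = 1 → Φ y ∈ (M : Subgroup G) := fun y hy => by
    obtain ⟨a, b, rfl⟩ := plane_of_cube y hy
    rw [hΦ, vec, SemidirectProduct.left_inl, SemidirectProduct.right_inl, map_one, OneMemClass.coe_one, mul_one]
    exact (ψ _).2
  refine ⟨Φ, hinj, fun y hy hy1 g hg => ?_, fun y y' hy hy1 hy' g hg => ?_, ?_, fun s hs hs1 hd => ?_⟩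
  · rw [hrange]
    exact hCg _ (hmem y hy) (fun e => hy1 (hinj (e.trans (map_one Φ).symm)))
      (Subgroup.mem_centralizer_singleton_iff.mpr hg)
  · rw [hrange, hN]
    have hy'1 : Φ y' ≠ 1 := fun e => hy1 (hinj (by
      rw [map_one]; rw [← hg] at e; simpa using e))
    have hleN : (M : Subgroup G).map (MulAut.conj g).toMonoidHom ≤ N := by
      rintro _ ⟨m, hm, rfl⟩
      refine hCg _ (hmem y' hy') hy'1 (Subgroup.mem_centralizer_singleton_iff.mpr ?_)
      show g * m * g⁻¹ * Φ y' = Φ y' * (g * m * g⁻¹)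
      have hc : m * Φ y = Φ y * m := by
        have : Φ y ∈ Subgroup.centralizer ((M : Subgroup G) : Set G) := hCM.symm ▸ hmem y hy
        exact Subgroup.mem_centralizer_iff.mp this m hm
      rw [← hg]
      calc g * m * g⁻¹ * (g * Φ y * g⁻¹) = g * (m * Φ y) * g⁻¹ := by group
        _ = g * Φ y * g⁻¹ * (g * m * g⁻¹) := by rw [hc]; group
    have hM' : (M : Subgroup G).map (MulAut.conj g).toMonoidHom ≤ (M : Subgroup G) := by
      intro x hx
      obtain ⟨m, hm, hmx⟩ := hx
      obtain ⟨z, hz⟩ : x ∈ Φ.range := hrange ▸ hleN ⟨m, hm, hmx⟩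
      rw [← hz]
      refine hmem z (hinj ?_)
      rw [map_pow, hz, ← hmx, ← map_pow, hMel m hm, map_one, map_one]
    have heq := Subgroup.eq_of_le_of_card_ge hM' (by
      rw [Subgroup.card_map_of_injective (MulAut.conj g).injective])
    refine Subgroup.mem_normalizer_iff.mpr fun m => ⟨fun hm => hM' ⟨m, hm, rfl⟩, fun hm => ?_⟩
    rw [← SetLike.mem_coe, ← heq] at hm
    obtain ⟨m', hm', e⟩ := hm
    have : m' = m := (MulAut.conj g).injective e
    exact this ▸ hm'
  · refine ⟨(M : Subgroup G).index, by rw [← hM9, Subgroup.card_mul_index], ?_⟩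
    have h1 : Nat.card (Sylow 3 G) = N.index := M.card_eq_index_normalizer
    have h2 : Nat.card (Sylow 3 G) % 3 = 1 % 3 := card_sylow_modEq_one 3 G
    have h3 := Subgroup.card_mul_index N
    have h4 := Subgroup.card_mul_index (M : Subgroup G)
    rw [h72] at h3
    rw [← h1] at h3
    rw [hM9] at h4
    omega
  · set C := Subgroup.centralizer ({Φ s} : Set G) with hC
    obtain ⟨K, hK⟩ := Sylow.exists_subgroup_card_pow_prime 3 (G := C) (n := 2) (show 3 ^ 2 ∣ Nat.card C from hd)
    have hKc : Nat.card (K.map C.subtype) = 3 ^ (Nat.card G).factorization 3 := by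
      rw [Subgroup.card_map_of_injective C.subtype_injective, hK, ← M.card_eq_multiplicity, hM9]
      norm_num
    obtain ⟨g, hg⟩ := MulAction.exists_smul_eq G M (Sylow.ofCard (K.map C.subtype) hKc)
    have hconj : g⁻¹ * Φ s * g ∈ (M : Subgroup G) := by
      rw [← hCM, Subgroup.mem_centralizer_iff]
      intro m hm
      have hm' : g * m * g⁻¹ ∈ C := by
        have hmem' : g * m * g⁻¹ ∈ ((g • M : Sylow 3 G) : Subgroup G) := ⟨m, hm, rfl⟩
        rw [hg] at hmem'
        exact Subgroup.map_subtype_le K hmem'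
      rw [Subgroup.mem_centralizer_singleton_iff] at hm'
      calc m * (g⁻¹ * Φ s * g) = g⁻¹ * (g * m * g⁻¹ * Φ s) * g := by group
        _ = g⁻¹ * Φ s * g * m := by rw [hm']; group
    have h3 : (g⁻¹ * Φ s * g) ^ 3 = 1 := hMel _ hconj
    have : Φ s ^ 3 = 1 := by
      have e : (g⁻¹ * Φ s * g) ^ 3 = g⁻¹ * Φ s ^ 3 * g := by simp [pow_succ, mul_assoc]
      rw [e] at h3
      calc Φ s ^ 3 = g * (g⁻¹ * Φ s ^ 3 * g) * g⁻¹ := by group
        _ = 1 := by rw [h3]; group
    rw [← map_pow, pow_succ, pow_two, hs, one_mul] at this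
    exact hs1 (hinj (this.trans (map_one Φ).symm))

theorem not_isSimpleGroup (M : Sylow 3 G) (hM9 : Nat.card ↥(M : Subgroup G) = 9)
    (hMel : ∀ m ∈ (M : Subgroup G), m ^ 3 = 1)
    (hCM : Subgroup.centralizer ((M : Subgroup G) : Set G) = (M : Subgroup G))
    (hCg : ∀ g ∈ (M : Subgroup G), g ≠ 1 →
      Subgroup.centralizer ({g} : Set G) ≤ Subgroup.normalizer ((M : Subgroup G) : Set G))
    (hS : ∀ S : Sylow 2 ↥(Subgroup.normalizer ((M : Subgroup G) : Set G)),
      Nonempty (↥(S : Subgroup ↥(Subgroup.normalizer ((M : Subgroup G) : Set G))) ≃* DihedralGroup 4)) :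
    ¬ IsSimpleGroup G := by
  intro hsimple
  haveI := Fintype.ofFinite G
  obtain ⟨Φ, h⟩ := exists_loc M hM9 hMel hCM hCg hS
  obtain ⟨χ, hne, hdeg⟩ := h.exists_linear
  have h1 : (χ : G → ℂ) 1 = 1 := by rw [CfsgLib.InvolChar.deg_spec, hdeg]; norm_num
  have hmul := CfsgLib.Char.linear_map_mul (CfsgLib.Char.isCharacter_of_isIrr χ.2) h1
  let f : G →* ℂ := { toFun := χ.1, map_one' := h1, map_mul' := hmul }
  have hna : ¬ IsMulCommutative G := fun hc => by
    have : (Φ sA) * (Φ eB) = (Φ eB) * (Φ sA) := hc.is_comm.comm _ _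
    rw [← map_mul, ← map_mul] at this
    exact absurd (h.inj this) (by decide +kernel)
  have hf : f.toHomUnits = 1 := by
    rcases IsSimpleGroup.eq_bot_or_eq_top_of_normal f.toHomUnits.ker inferInstance with hk | hk
    · exact absurd ⟨⟨fun a b => (MonoidHom.ker_eq_bot_iff f.toHomUnits).mp hk (by simp [mul_comm])⟩⟩ hna
    · exact MonoidHom.ext fun g => MonoidHom.mem_ker.mp (hk ▸ Subgroup.mem_top g)
  refine hne (Subtype.ext (funext fun g => ?_))
  rw [CfsgLib.Char.irrOne_apply]
  exact congrArg Units.val (DFunLike.congr_fun hf g)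

end CfsgLib.SmallGroups.DihedralThree
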